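import Cfsg.Agent.Lib.SpSpec.Absorb
import Cfsg.Agent.Lib.MaxSub.MinusModel
import Cfsg.Agent.Lib.QuadFin.LeviPlus
import Cfsg.Agent.Lib.Classical.OrthTwo

/-!
Isometries of prescribed order on orthogonal sums in characteristic two.
-/

set_option autoImplicit false
set_option linter.unusedSectionVars false

namespace Cfsg.Agent.Lib.SpEight

open Finset

section General

variable {F : Type*} [Field F] {V W U X : Type*} [AddCommGroup V] [Module F V]
  [AddCommGroup W] [Module F W] [AddCommGroup U] [Module F U] [AddCommGroup X] [Module F X]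

/-- Preservation of a form. -/
def Pres (Q : V → F) (g : Module.End F V) : Prop := ∀ v, Q (g v) = Q v

theorem Pres.one {Q : V → F} : Pres Q 1 := fun _ => rfl

theorem Pres.mul {Q : V → F} {g h : Module.End F V} (hg : Pres Q g) (hh : Pres Q h) :
    Pres Q (g * h) := fun v => by rw [Module.End.mul_apply, hg, hh]

theorem Pres.pow {Q : V → F} {g : Module.End F V} (hg : Pres Q g) : ∀ k : ℕ, Pres Q (g ^ k)
  | 0 => by rw [pow_zero]; exact Pres.one
  | k + 1 => by rw [pow_succ]; exact (hg.pow k).mul hg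

/-- An isometry of exact order `n`. -/
def Elt (Q : V → F) (n : ℕ) : Prop := ∃ g : Module.End F V, Pres Q g ∧ orderOf g = n

/-- The sum of two forms. -/
def qsum (P : V → F) (Q : W → F) (p : V × W) : F := P p.1 + Q p.2

/-- Equivalence of forms. -/
def Eqv (P : V → F) (Q : W → F) : Prop := ∃ e : V ≃ₗ[F] W, ∀ v, Q (e v) = P v

theorem Eqv.refl (P : V → F) : Eqv P P := ⟨LinearEquiv.refl F V, fun _ => rfl⟩

theorem Eqv.symm {P : V → F} {Q : W → F} : Eqv P Q → Eqv Q P
  | ⟨e, h⟩ => ⟨e.symm, fun w => by rw [← h, e.apply_symm_apply]⟩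

theorem Eqv.trans {P : V → F} {Q : W → F} {R : U → F} : Eqv P Q → Eqv Q R → Eqv P R
  | ⟨e, h⟩, ⟨e', h'⟩ => ⟨e.trans e', fun v => by rw [LinearEquiv.trans_apply, h', h]⟩

theorem Eqv.sum {P : V → F} {P' : W → F} {Q : U → F} {Q' : X → F} :
    Eqv P P' → Eqv Q Q' → Eqv (qsum P Q) (qsum P' Q')
  | ⟨e, h⟩, ⟨e', h'⟩ => ⟨e.prodCongr e', fun v => by simp [qsum, h, h']⟩

theorem Eqv.comm (P : V → F) (Q : W → F) : Eqv (qsum P Q) (qsum Q P) :=
  ⟨LinearEquiv.prodComm F V W, fun v => by simp [qsum, add_comm]⟩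

theorem Pres.conj {P : V → F} {Q : W → F} (e : V ≃ₗ[F] W) (h : ∀ v, Q (e v) = P v)
    {g : Module.End F V} (hg : Pres P g) : Pres Q (e.conjAlgEquiv F g) := fun w => by
  show Q (e (g (e.symm w))) = Q w
  rw [h, hg, ← h, e.apply_symm_apply]

theorem orderOf_conj (e : V ≃ₗ[F] W) (g : Module.End F V) :
    orderOf (e.conjAlgEquiv F g) = orderOf g :=
  orderOf_injective (e.conjAlgEquiv F : Module.End F V →* Module.End F W)
    (e.conjAlgEquiv F).injective g

theorem Elt.map {P : V → F} {Q : W → F} {n : ℕ} : Eqv P Q → Elt P n → Elt Q n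
  | ⟨e, h⟩, ⟨g, hg, ho⟩ => ⟨_, hg.conj e h, by rw [orderOf_conj, ho]⟩

/-- Pairs of endomorphisms. -/
def prHom : Module.End F V × Module.End F W →* Module.End F (V × W) where
  toFun p := p.1.prodMap p.2
  map_one' := LinearMap.ext fun _ => rfl
  map_mul' _ _ := LinearMap.ext fun _ => rfl

theorem prHom_apply (a : Module.End F V) (b : Module.End F W) (p : V × W) :
    prHom (a, b) p = (a p.1, b p.2) := rfl

theorem prHom_injective : Function.Injective (prHom : Module.End F V × Module.End F W →* _) := by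
  rintro ⟨a, b⟩ ⟨a', b'⟩ h
  refine Prod.ext (LinearMap.ext fun v => ?_) (LinearMap.ext fun w => ?_)
  · exact congrArg Prod.fst (LinearMap.congr_fun h (v, 0))
  · exact congrArg Prod.snd (LinearMap.congr_fun h (0, w))

theorem orderOf_prHom (a : Module.End F V) (b : Module.End F W) :
    orderOf (prHom (a, b)) = Nat.lcm (orderOf a) (orderOf b) := by
  rw [orderOf_injective _ prHom_injective, Prod.orderOf_mk]

theorem Pres.pr {P : V → F} {Q : W → F} {a : Module.End F V} {b : Module.End F W} (ha : Pres P a)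
    (hb : Pres Q b) : Pres (qsum P Q) (prHom (a, b)) := fun p => by
  simp only [qsum, prHom_apply, ha p.1, hb p.2]

theorem Elt.prod {P : V → F} {Q : W → F} {m n : ℕ} (hmn : m.Coprime n) :
    Elt P m → Elt Q n → Elt (qsum P Q) (m * n)
  | ⟨a, ha, hm⟩, ⟨b, hb, hn⟩ => ⟨_, ha.pr hb, by
      rw [orderOf_prHom, hm, hn, hmn.lcm_eq_mul]⟩

theorem Elt.one {P : V → F} : Elt P 1 := ⟨1, Pres.one, orderOf_one⟩

/-- The parity condition placing an isometry in the kernel of the Dickson invariant. -/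
def Par (Q : V → F) (g : Module.End F V) : Prop :=
  (∃ k, Odd k ∧ Even (Module.finrank F (LinearMap.range (g ^ k - 1)))) ∨
    ∃ h, Pres Q h ∧ g = h * h

/-- An isometry giving an element order `n` in the split extension by the natural module. -/
def Spec (Q : V → F) (n : ℕ) : Prop :=
  ∃ g : Module.End F V, Pres Q g ∧ 0 < orderOf g ∧ Par Q g ∧ (n ∣ orderOf g ∨
    ∃ v, (∑ i ∈ range (orderOf g), g ^ i) v ≠ 0 ∧ n ∣ 2 * orderOf g)

theorem Spec.map {P : V → F} {Q : W → F} {n : ℕ} : Eqv P Q → Spec P n → Spec Q n := by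
  rintro ⟨e, h⟩ ⟨g, hg, hpos, hpar, hn⟩
  refine ⟨_, hg.conj e h, by rwa [orderOf_conj], ?_, ?_⟩
  · rcases hpar with ⟨k, hk, hev⟩ | ⟨r, hr, rfl⟩
    · refine Or.inl ⟨k, hk, ?_⟩
      have : e.conjAlgEquiv F g ^ k - 1 = e.toLinearMap ∘ₗ (g ^ k - 1) ∘ₗ e.symm.toLinearMap := by
        rw [← map_pow, ← map_one (e.conjAlgEquiv F), ← map_sub]
        rfl
      rwa [this, LinearMap.range_comp, LinearMap.range_comp_of_range_eq_top _ e.symm.range,
        LinearEquiv.finrank_map_eq]
    · exact Or.inr ⟨_, hr.conj e h, map_mul _ _ _⟩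
  · rw [orderOf_conj]
    refine hn.imp_right ?_
    rintro ⟨v, hv, hd⟩
    refine ⟨e v, fun h0 => hv (e.injective ?_), hd⟩
    simp only [← map_pow, ← map_sum] at h0
    change e ((∑ i ∈ range (orderOf g), g ^ i) (e.symm (e v))) = 0 at h0
    rwa [e.symm_apply_apply, ← map_zero e] at h0

/-- An element of odd order. -/
theorem Spec.of_odd {P : V → F} {n : ℕ} (hn : Odd n) : Elt P n → Spec P n := by
  rintro ⟨g, hg, rfl⟩
  refine ⟨g, hg, hn.pos, Or.inl ⟨orderOf g, hn, ?_⟩, Or.inl dvd_rfl⟩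
  rw [pow_orderOf_eq_one, sub_self, LinearMap.range_zero, finrank_bot]
  exact Even.zero

variable [CharP F 2]

include F in
theorem add_self_zero (x : V) : x + x = 0 := by
  have h : (2 : F) • x = 0 := by rw [CharTwo.two_eq_zero, zero_smul]
  rwa [two_smul] at h

include F in
theorem odd_nsmul {d : ℕ} (hd : Odd d) (x : V) : d • x = x := by
  obtain ⟨j, rfl⟩ := hd
  rw [add_nsmul, one_nsmul, mul_comm, mul_nsmul, two_nsmul, add_self_zero (F := F), zero_add]

theorem geom_periodic {g : Module.End F V} {m d : ℕ} (hg : g ^ m = 1) (hd : Odd d) :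
    ∑ i ∈ range (m * d), g ^ i = ∑ i ∈ range m, g ^ i := by
  have h : ∀ j, ∑ i ∈ range (m * j), g ^ i = j • ∑ i ∈ range m, g ^ i := by
    intro j
    induction j with
    | zero => simp
    | succ j ih =>
      rw [Nat.mul_succ, sum_range_add, ih, succ_nsmul]
      congr 1
      refine sum_congr rfl fun i _ => ?_
      rw [pow_add, pow_mul, hg, one_pow, one_mul]
  refine LinearMap.ext fun v => ?_
  rw [h, LinearMap.smul_apply, odd_nsmul (F := F) hd]

theorem prHom_sum_fst (a : Module.End F V) (b : Module.End F W) (v : V) (N : ℕ) :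
    ((∑ i ∈ range N, prHom (a, b) ^ i) (v, 0)).1 = (∑ i ∈ range N, a ^ i) v := by
  rw [LinearMap.sum_apply, Prod.fst_sum, LinearMap.sum_apply]
  refine sum_congr rfl fun i _ => ?_
  rw [← map_pow]
  rfl

/-- An element of odd order fixing a vector. -/
theorem Spec.of_fix {P : V → F} {Q : W → F} [Nontrivial W] {d : ℕ} (hd : Odd d) :
    Elt P d → Spec (qsum P Q) (2 * d) := by
  rintro ⟨a, ha, rfl⟩
  have ho : orderOf (prHom (a, (1 : Module.End F W))) = orderOf a := by
    rw [orderOf_prHom, orderOf_one, Nat.lcm_one_right]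
  obtain ⟨w, hw⟩ := exists_ne (0 : W)
  refine ⟨_, ha.pr Pres.one, by rw [ho]; exact hd.pos, Or.inl ⟨orderOf a, hd, ?_⟩,
    Or.inr ⟨(0, w), ?_, by rw [ho]⟩⟩
  · rw [← ho, pow_orderOf_eq_one, sub_self, LinearMap.range_zero, finrank_bot]
    exact Even.zero
  · intro h
    have := congrArg Prod.snd h
    rw [ho, LinearMap.sum_apply, Prod.snd_sum] at this
    simp only [← map_pow, Prod.pow_mk, prHom_apply, one_pow, Module.End.one_apply, sum_const,
      card_range, odd_nsmul (F := F) hd, Prod.snd_zero] at this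
    exact hw this

/-- Twice an element of odd order from an exchange of two summands. -/
theorem Spec.of_swap {P : V → F} {Q : W → F} [Nontrivial V] [Module.Finite F V]
    (hev : Even (Module.finrank F V)) {d e : ℕ} (hd : Odd d) (he : Odd e) (hde : d.Coprime e) :
    Elt P d → Elt Q e → Elt (qsum (qsum P P) Q) (2 * (d * e)) ∧
      Spec (qsum (qsum P P) Q) (2 * (d * e)) := by
  rintro ⟨a, ha, rfl⟩ ⟨b, hb, rfl⟩
  set σ : Module.End F (V × V) := (LinearEquiv.prodComm F V V).toLinearMap with hσ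
  have hσa : ∀ p : V × V, σ p = (p.2, p.1) := fun p => rfl
  have hcomm : Commute (prHom (a, a)) σ := LinearMap.ext fun p => rfl
  have hσ2 : σ ^ 2 = 1 := LinearMap.ext fun p => rfl
  have hoa : orderOf (prHom (a, a)) = orderOf a := by rw [orderOf_prHom, Nat.lcm_self]
  have hσne : σ ≠ 1 := by
    intro h
    obtain ⟨v, hv⟩ := exists_ne (0 : V)
    exact hv (congrArg Prod.snd (LinearMap.congr_fun h (v, 0)))
  have hos : orderOf σ = 2 := orderOf_eq_prime hσ2 hσne
  have hog : orderOf (prHom (a, a) * σ) = orderOf a * 2 := by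
    rw [hcomm.orderOf_mul_eq_mul_orderOf_of_coprime (by rw [hoa, hos]; exact Nat.coprime_two_right.2 hd),
      hoa, hos]
  have hσP : Pres (qsum P P) σ := fun p => add_comm _ _
  have ho : orderOf (prHom (prHom (a, a) * σ, b)) = 2 * (orderOf a * orderOf b) := by
    rw [orderOf_prHom, hog, Nat.Coprime.lcm_eq_mul
      (Nat.Coprime.mul_left hde (Nat.coprime_two_left.2 he))]
    ring
  refine ⟨⟨_, ((ha.pr ha).mul hσP).pr hb, ho⟩,
    _, ((ha.pr ha).mul hσP).pr hb, ?_, Or.inl ⟨orderOf a * orderOf b, hd.mul he, ?_⟩,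
    Or.inl (by rw [ho])⟩
  · rw [ho]; exact Nat.mul_pos two_pos (Nat.mul_pos hd.pos he.pos)
  have hpw : prHom (prHom (a, a) * σ, b) ^ (orderOf a * orderOf b) = prHom (σ, 1) := by
    rw [← map_pow, Prod.pow_mk, hcomm.mul_pow, ← map_pow, Prod.pow_mk]
    congr 2
    · rw [pow_mul, pow_orderOf_eq_one, one_pow, show ((1, 1) : Module.End F V × Module.End F V) = 1
        from rfl, map_one, one_mul]
      obtain ⟨j, hj⟩ := hd.mul he
      rw [hj, pow_succ, pow_mul, hσ2, one_pow, one_mul]
    · rw [mul_comm, pow_mul, pow_orderOf_eq_one, one_pow]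
  rw [hpw]
  let δ : V →ₗ[F] (V × V) × W := LinearMap.inl F (V × V) W ∘ₗ (LinearMap.id.prod LinearMap.id)
  have hδ : LinearMap.range (prHom (σ, (1 : Module.End F W)) - 1) = LinearMap.range δ := by
    apply le_antisymm
    · rintro _ ⟨⟨p, w⟩, rfl⟩
      refine ⟨p.2 - p.1, ?_⟩
      refine Prod.ext (Prod.ext ?_ ?_) ?_
      · rfl
      · show p.2 - p.1 = p.1 - p.2
        rw [← neg_sub p.1 p.2, neg_eq_iff_add_eq_zero]
        exact add_self_zero (F := F) _
      · exact (sub_self w).symm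
    · rintro _ ⟨x, rfl⟩
      refine ⟨((0, x), 0), Prod.ext (Prod.ext ?_ ?_) ?_⟩
      · exact sub_zero x
      · show (0 : V) - x = x
        rw [zero_sub, neg_eq_iff_add_eq_zero]
        exact add_self_zero (F := F) _
      · exact sub_self 0
  rwa [hδ, LinearMap.finrank_range_of_inj]
  intro x y h
  exact congrArg (fun p : (V × V) × W => p.1.1) h

/-- Four times an element of odd order. -/
theorem Spec.of_four {P : V → F} {Q : W → F} {d : ℕ} (hd : Odd d) :
    Elt P 4 → Elt Q d → Spec (qsum P Q) (4 * d) := by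
  rintro ⟨a, ha, h4⟩ ⟨b, hb, rfl⟩
  have ha2 : orderOf (a * a) = 2 := by
    rw [← sq, orderOf_pow' a two_ne_zero, h4]; rfl
  have hb2 : orderOf (b * b) = orderOf b := by
    rw [← sq]; exact (Nat.coprime_two_right.2 hd).orderOf_pow
  have ho : orderOf (prHom (a * a, b * b)) = 2 * orderOf b := by
    rw [orderOf_prHom, ha2, hb2, (Nat.coprime_two_left.2 hd).lcm_eq_mul]
  have hsum : ∑ i ∈ range 2, (a * a) ^ i ≠ 0 := by
    intro h
    rw [sum_range_succ, sum_range_one, pow_zero, pow_one] at h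
    have h1 : a * a = 1 := LinearMap.ext fun v => by
      have := LinearMap.congr_fun h v
      rw [LinearMap.add_apply, LinearMap.zero_apply, Module.End.one_apply, add_comm] at this
      rw [eq_neg_of_add_eq_zero_left this, Module.End.one_apply, neg_eq_iff_add_eq_zero]
      exact add_self_zero (F := F) v
    rw [h1, orderOf_one] at ha2
    omega
  obtain ⟨v, hv⟩ : ∃ v, (∑ i ∈ range 2, (a * a) ^ i) v ≠ 0 := by
    by_contra hc
    push Not at hc
    exact hsum (LinearMap.ext hc)
  refine ⟨_, ((ha.mul ha)).pr (hb.mul hb), by rw [ho]; have := hd.pos; omega,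
    Or.inr ⟨prHom (a, b), ha.pr hb, by rw [← map_mul]; rfl⟩, Or.inr ⟨(v, 0), fun h => hv ?_, ?_⟩⟩
  · rw [← geom_periodic (d := orderOf b) (by rw [← ha2]; exact pow_orderOf_eq_one _) hd,
      ← prHom_sum_fst _ (b * b), ← ho, h]
    rfl
  · rw [ho]; exact dvd_of_eq (by ring)

/-- Eight times an element of odd order. -/
theorem Spec.of_eight {P : V → F} {R : U → F} {Q : W → F} [Module.Finite F V] [Module.Finite F U]
    [Module.Finite F W] {d : ℕ} (hd : Odd d) (hP : ∃ a, Pres P a ∧ a ^ 4 = 1 ∧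
      ∃ v, (∑ i ∈ range 4, a ^ i) v ≠ 0)
    (hR : ∃ s, Pres R s ∧ s ^ 2 = 1 ∧ Module.finrank F (LinearMap.range (s - 1)) = 1) :
    Elt Q d → Spec (qsum P (qsum R Q)) (8 * d) := by
  rintro ⟨b, hb, rfl⟩
  obtain ⟨a, ha, h4, v, hv⟩ := hP
  obtain ⟨s₀, hs₀, hs2, hs1⟩ := hR
  have ho4 : orderOf a = 4 := by
    refine orderOf_eq_prime_pow (p := 2) (n := 1) ?_ h4
    intro h2
    rw [pow_one] at h2
    apply hv
    rw [show range 4 = range (2 + 2) from rfl, sum_range_add]
    simp only [pow_add, h2, one_mul, LinearMap.add_apply]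
    exact add_self_zero (F := F) _
  obtain ⟨s, hs, hs', hev⟩ : ∃ s, Pres R s ∧ s ^ 2 = 1 ∧
      Even (Module.finrank F (LinearMap.range (a ^ orderOf b - 1)) +
        Module.finrank F (LinearMap.range (s - 1))) := by
    rcases Nat.even_or_odd (Module.finrank F (LinearMap.range (a ^ orderOf b - 1))) with h | h
    · exact ⟨1, Pres.one, one_pow 2, by rw [sub_self, LinearMap.range_zero, finrank_bot]; simpa⟩
    · exact ⟨s₀, hs₀, hs2, by rw [hs1]; exact h.add_one⟩
  have hosd : orderOf s ∣ 4 := (orderOf_dvd_of_pow_eq_one hs').trans (by norm_num)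
  have ho : orderOf (prHom (a, prHom (s, b))) = 4 * orderOf b := by
    rw [orderOf_prHom, orderOf_prHom, ho4, ← Nat.lcm_assoc, Nat.lcm_eq_left hosd]
    exact (Nat.Coprime.pow_left 2 (Nat.coprime_two_left.2 hd)).lcm_eq_mul
  refine ⟨_, ha.pr (hs.pr hb), by rw [ho]; have := hd.pos; omega,
    Or.inl ⟨orderOf b, hd, ?_⟩, Or.inr ⟨(v, 0), fun h => hv ?_, ?_⟩⟩
  · have hs_d : s ^ orderOf b = s := by
      obtain ⟨j, hj⟩ := hd
      rw [hj, pow_succ, pow_mul, hs', one_pow, one_mul]
    have : prHom (a, prHom (s, b)) ^ orderOf b - 1 =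
        (a ^ orderOf b - 1).prodMap ((s - 1).prodMap (0 : Module.End F W)) := by
      rw [← map_pow, Prod.pow_mk, ← map_pow, Prod.pow_mk, hs_d, pow_orderOf_eq_one]
      refine LinearMap.ext fun p => ?_
      refine Prod.ext rfl (Prod.ext rfl ?_)
      exact sub_self _
    rw [this, LinearMap.range_prodMap, QuadFin.finrank_submodule_prod, LinearMap.range_prodMap,
      QuadFin.finrank_submodule_prod, LinearMap.range_zero, finrank_bot, add_zero]
    exact hev
  · rw [← geom_periodic (d := orderOf b) h4 hd, ← prHom_sum_fst _ (prHom (s, b)), ← ho, h]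
    rfl
  · rw [ho]; exact dvd_of_eq (by ring)

end General

section Double

variable {F : Type*} [Field F] [CharP F 2] {W : Type*} [AddCommGroup W] [Module F W]

/-- The hyperbolic plane. -/
def hyp (F : Type*) [Field F] (p : F × F) : F := p.1 * p.2

/-- The extension of an isometry to one more hyperbolic plane. -/
def dbl (Q : QuadraticForm F W) (w : W) (h : Module.End F W) : Module.End F ((F × F) × W) where
  toFun p := ((p.1.1 + QuadraticMap.polarBilin Q w (h p.2) + Q w * p.1.2, p.1.2), h p.2 + p.1.2 • w)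
  map_add' p r := by
    refine Prod.ext (Prod.ext ?_ rfl) ?_
    · simp only [Prod.fst_add, Prod.snd_add, map_add]; ring
    · simp only [Prod.fst_add, Prod.snd_add, map_add, add_smul]; abel
  map_smul' c p := by
    refine Prod.ext (Prod.ext ?_ rfl) ?_
    · simp only [Prod.smul_fst, Prod.smul_snd, map_smul, smul_eq_mul, RingHom.id_apply]; ring
    · simp only [Prod.smul_fst, Prod.smul_snd, map_smul, smul_add, smul_smul, smul_eq_mul,
        RingHom.id_apply]

variable {Q : QuadraticForm F W} {w : W} {h : Module.End F W}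

theorem dbl_apply (x y : F) (v : W) :
    dbl Q w h ((x, y), v) =
      ((x + QuadraticMap.polarBilin Q w (h v) + Q w * y, y), h v + y • w) := rfl

theorem dbl_pres (hh : Pres Q h) : Pres (qsum (hyp F) Q) (dbl Q w h) := by
  rintro ⟨⟨x, y⟩, v⟩
  rw [dbl_apply]
  simp only [qsum, hyp]
  rw [Geometry.quad_add, hh v, Geometry.quad_smul, map_smul, smul_eq_mul,
    Geometry.quad_polar_comm Q (h v) w]
  linear_combination CharTwo.two_eq_zero (R := F) *
    (y * QuadraticMap.polarBilin Q w (h v) + Q w * (y * y))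

theorem dbl_pow_zero (k : ℕ) (x : F) (v : W) :
    (dbl Q w h ^ k) ((x, 0), v) =
      ((x + QuadraticMap.polarBilin Q w (h ((∑ i ∈ range k, h ^ i) v)), 0), (h ^ k) v) := by
  induction k with
  | zero => simp
  | succ k ih =>
    rw [pow_succ', Module.End.mul_apply, ih, dbl_apply, mul_zero, add_zero, zero_smul, add_zero,
      sum_range_succ, LinearMap.add_apply, map_add, map_add, pow_succ', Module.End.mul_apply,
      add_assoc]

theorem dbl_pow_unit (k : ℕ) : ∃ c, (dbl Q w h ^ k) ((0, 1), 0) =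
    ((c, 1), (∑ i ∈ range k, h ^ i) w) := by
  induction k with
  | zero => exact ⟨0, by simp⟩
  | succ k ih =>
    obtain ⟨c, hc⟩ := ih
    refine ⟨_, by rw [pow_succ', Module.End.mul_apply, hc, dbl_apply, one_smul, geom_sum_succ,
      LinearMap.add_apply, Module.End.mul_apply, Module.End.one_apply]⟩

theorem dbl_pow_two_mul {n : ℕ} (hn : Even n) (hh : h ^ n = 1) : dbl Q w h ^ (2 * n) = 1 := by
  set g := dbl Q w h
  have hu : (∑ i ∈ range n, h ^ i) ((∑ i ∈ range n, h ^ i) w) = 0 := by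
    have hS : ∀ i, h ^ i * (∑ j ∈ range n, h ^ j) = ∑ j ∈ range n, h ^ j := by
      intro i
      induction i with
      | zero => rw [pow_zero, one_mul]
      | succ i ih =>
        have h1 : h * (∑ j ∈ range n, h ^ j) = ∑ j ∈ range n, h ^ j := by
          have := (geom_sum_succ (x := h) (n := n)).symm.trans (geom_sum_succ' (x := h) (n := n))
          rw [hh] at this
          exact add_right_cancel (this.trans (add_comm _ _))
        rw [pow_succ, mul_assoc, h1, ih]
    rw [← Module.End.mul_apply, sum_mul]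
    simp only [hS, sum_const, card_range, LinearMap.smul_apply]
    obtain ⟨j, rfl⟩ := hn
    rw [add_nsmul]
    exact add_self_zero (F := F) _
  have h0 : ∀ x v, (g ^ (2 * n)) ((x, 0), v) = ((x, 0), v) := by
    intro x v
    rw [two_mul, pow_add, Module.End.mul_apply, dbl_pow_zero, dbl_pow_zero, hh,
      Module.End.one_apply, add_assoc, CharTwo.add_self_eq_zero, add_zero]
    rfl
  have h1 : (g ^ (2 * n)) ((0, 1), 0) = ((0, 1), 0) := by
    obtain ⟨c, hc⟩ := dbl_pow_unit (Q := Q) (w := w) (h := h) n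
    rw [two_mul, pow_add, Module.End.mul_apply, hc]
    rw [show (((c, 1), (∑ i ∈ range n, h ^ i) w) : (F × F) × W) =
      ((0, 1), 0) + ((c, 0), (∑ i ∈ range n, h ^ i) w) by simp, map_add, hc, dbl_pow_zero, hh,
      Module.End.one_apply, hu, map_zero, map_zero, add_zero]
    simp [add_self_zero (F := F)]
  refine LinearMap.ext fun p => ?_
  obtain ⟨⟨x, y⟩, v⟩ := p
  rw [show (((x, y), v) : (F × F) × W) = ((x, 0), v) + y • ((0, 1), 0) by simp, map_add, map_smul,
    h0, h1]
  rfl

theorem dbl_pow_ne {n : ℕ} (hu : (∑ i ∈ range n, h ^ i) w ≠ 0) : dbl Q w h ^ n ≠ 1 := by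
  intro h1
  obtain ⟨c, hc⟩ := dbl_pow_unit (Q := Q) (w := w) (h := h) n
  rw [h1, Module.End.one_apply] at hc
  exact hu (congrArg Prod.snd hc).symm

theorem dbl_sum_four (hh : h ^ 2 = 1) :
    (∑ i ∈ range 4, dbl Q w h ^ i) ((0, 1), 0) =
      ((QuadraticMap.polarBilin Q w (h w), 0), 0) := by
  set g := dbl Q w h
  have h2 : (∑ i ∈ range 2, g ^ i) ((0, 1), 0) = ((Q w, 0), w) := by
    rw [sum_range_succ, sum_range_one, pow_zero, pow_one, LinearMap.add_apply,
      Module.End.one_apply, dbl_apply]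
    simp [CharTwo.add_self_eq_zero]
  have h22 : (∑ i ∈ range 4, g ^ i) = (∑ i ∈ range 2, g ^ i) + g ^ 2 * (∑ i ∈ range 2, g ^ i) := by
    rw [show range 4 = range (2 + 2) from rfl, sum_range_add, mul_sum]
    simp only [pow_add]
  rw [h22, LinearMap.add_apply, Module.End.mul_apply, h2, dbl_pow_zero, hh, Module.End.one_apply,
    sum_range_succ, sum_range_one, pow_zero, pow_one, LinearMap.add_apply, Module.End.one_apply,
    map_add, ← Module.End.mul_apply h h, ← sq, hh, Module.End.one_apply, map_add]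
  refine Prod.ext (Prod.ext ?_ (add_zero _)) (add_self_zero (F := F) w)
  show Q w + (Q w + (QuadraticMap.polarBilin Q w (h w) + QuadraticMap.polarBilin Q w w)) = _
  rw [Geometry.quad_polar_self]
  linear_combination CharTwo.two_eq_zero (R := F) * (2 * Q w)

end Double

end Cfsg.Agent.Lib.SpEight
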