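import Mathlib

/-!
The maximal element orders of `Sp₈(q)`, `q` even, and their divisibility rules.
-/

set_option autoImplicit false

namespace Cfsg.Agent.Lib.SpEight

/-- The exponents of the maximal tori of `Sp_{2k}(q)`, `k ≤ 4`. -/
def Good (q : ℕ) : ℕ → ℕ → Prop
  | 0, T => T = 1
  | 1, T => T = q - 1 ∨ T = q + 1
  | 2, T => T = q ^ 2 - 1 ∨ T = q ^ 2 + 1
  | 3, T => T = q ^ 3 - 1 ∨ T = q ^ 3 + 1 ∨ T = (q ^ 2 + 1) * (q - 1) ∨
      T = (q ^ 2 + 1) * (q + 1) ∨ T = q ^ 2 - 1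
  | 4, T => T = q ^ 4 + 1 ∨ T = q ^ 4 - 1 ∨ T = (q ^ 3 - 1) * (q + 1) ∨ T = (q ^ 3 + 1) * (q - 1)
  | _, _ => False

/-- The orders of elements of `Sp₈(q)` divide these numbers. -/
def Target (q n : ℕ) : Prop :=
  ∃ e k T, e + k ≤ 4 ∧ e ≤ 3 ∧ Good q k T ∧ n ∣ 2 ^ e * T

variable {q : ℕ}

theorem dvds (hq : 1 ≤ q) :
    q - 1 ∣ q ^ 2 - 1 ∧ q + 1 ∣ q ^ 2 - 1 ∧ q ^ 2 - 1 ∣ q ^ 4 - 1 ∧ q ^ 2 + 1 ∣ q ^ 4 - 1 ∧
    q - 1 ∣ q ^ 3 - 1 ∧ q + 1 ∣ q ^ 3 + 1 ∧ (q ^ 2 + 1) * (q - 1) ∣ q ^ 4 - 1 ∧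
    (q ^ 2 + 1) * (q + 1) ∣ q ^ 4 - 1 := by
  have h2 : 1 ≤ q ^ 2 := Nat.one_le_pow _ _ hq
  have h3 : 1 ≤ q ^ 3 := Nat.one_le_pow _ _ hq
  have h4 : 1 ≤ q ^ 4 := Nat.one_le_pow _ _ hq
  refine ⟨⟨q + 1, ?_⟩, ⟨q - 1, ?_⟩, ⟨q ^ 2 + 1, ?_⟩, ⟨q ^ 2 - 1, ?_⟩, ⟨q ^ 2 + q + 1, ?_⟩, ?_,
    ⟨q + 1, ?_⟩, ⟨q - 1, ?_⟩⟩
  case refine_6 =>
    refine ⟨q * (q - 1) + 1, ?_⟩
    zify [hq]; ring
  all_goals
    zify [hq, h2, h3, h4]
    ring

theorem merge (hq : 1 ≤ q) {a b x T : ℕ} (ha : 1 ≤ a) (hab : a + b ≤ 4)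
    (hx : x = q ^ a - 1 ∨ x = q ^ a + 1) (hT : Good q b T) :
    ∃ T', Good q (a + b) T' ∧ Nat.lcm x T ∣ T' := by
  obtain ⟨d1, d2, d3, d4, d5, d6, d7, d8⟩ := dvds hq
  have e1 := d1.trans d3
  have e2 := d2.trans d3
  suffices h : ∃ T', Good q (a + b) T' ∧ x ∣ T' ∧ T ∣ T' by
    obtain ⟨T', h1, h2, h3⟩ := h
    exact ⟨T', h1, Nat.lcm_dvd h2 h3⟩
  rcases b with _ | _ | _ | _ | b
  · obtain rfl : T = 1 := hT
    refine ⟨x, ?_, dvd_rfl, one_dvd _⟩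
    rcases a with _ | _ | _ | _ | _ | a
    · omega
    · exact hx.imp (by simp) (by simp)
    · exact hx
    · rcases hx with h | h <;> simp [Good, h]
    · rcases hx with h | h <;> simp [Good, h]
    · omega
  · rcases a with _ | _ | _ | _ | a
    · omega
    · refine ⟨q ^ 2 - 1, Or.inl rfl, ?_, ?_⟩
      · rcases hx with rfl | rfl <;> simpa
      · rcases hT with rfl | rfl <;> simpa
    · rcases hx with rfl | rfl
      · refine ⟨q ^ 2 - 1, by simp [Good], dvd_rfl, ?_⟩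
        rcases hT with rfl | rfl <;> assumption
      · rcases hT with rfl | rfl
        · exact ⟨(q ^ 2 + 1) * (q - 1), by simp [Good], dvd_mul_right _ _, dvd_mul_left _ _⟩
        · exact ⟨(q ^ 2 + 1) * (q + 1), by simp [Good], dvd_mul_right _ _, dvd_mul_left _ _⟩
    · rcases hx with rfl | rfl <;> rcases hT with rfl | rfl
      · exact ⟨(q ^ 3 - 1) * (q + 1), by simp [Good], dvd_mul_right _ _, d5.trans (dvd_mul_right _ _)⟩
      · exact ⟨(q ^ 3 - 1) * (q + 1), by simp [Good], dvd_mul_right _ _, dvd_mul_left _ _⟩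
      · exact ⟨(q ^ 3 + 1) * (q - 1), by simp [Good], dvd_mul_right _ _, dvd_mul_left _ _⟩
      · exact ⟨(q ^ 3 + 1) * (q - 1), by simp [Good], dvd_mul_right _ _, d6.trans (dvd_mul_right _ _)⟩
    · omega
  · rcases a with _ | _ | _ | a
    · omega
    · rcases hT with rfl | rfl
      · refine ⟨q ^ 2 - 1, by simp [Good], ?_, dvd_rfl⟩
        rcases hx with rfl | rfl <;> simpa
      · rcases hx with rfl | rfl
        · exact ⟨(q ^ 2 + 1) * (q - 1), by simp [Good], by simp, dvd_mul_right _ _⟩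
        · exact ⟨(q ^ 2 + 1) * (q + 1), by simp [Good], by simp, dvd_mul_right _ _⟩
    · refine ⟨q ^ 4 - 1, by simp [Good], ?_, ?_⟩
      · rcases hx with rfl | rfl <;> assumption
      · rcases hT with rfl | rfl <;> assumption
    · omega
  · obtain rfl : a = 1 := by omega
    rw [pow_one] at hx
    have hx4 : x ∣ q ^ 4 - 1 := by rcases hx with rfl | rfl <;> assumption
    rcases hT with rfl | rfl | rfl | rfl | rfl
    · refine ⟨(q ^ 3 - 1) * (q + 1), by simp [Good], ?_, dvd_mul_right _ _⟩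
      rcases hx with rfl | rfl
      · exact d5.trans (dvd_mul_right _ _)
      · exact dvd_mul_left _ _
    · refine ⟨(q ^ 3 + 1) * (q - 1), by simp [Good], ?_, dvd_mul_right _ _⟩
      rcases hx with rfl | rfl
      · exact dvd_mul_left _ _
      · exact d6.trans (dvd_mul_right _ _)
    · exact ⟨q ^ 4 - 1, by simp [Good], hx4, d7⟩
    · exact ⟨q ^ 4 - 1, by simp [Good], hx4, d8⟩
    · exact ⟨q ^ 4 - 1, by simp [Good], hx4, d3⟩
  · omega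

theorem good_step (hq : 1 ≤ q) {k T : ℕ} (hk : k < 4) (hT : Good q k T) :
    ∃ T', Good q (k + 1) T' ∧ T ∣ T' := by
  obtain ⟨T', h, hd⟩ := merge hq le_rfl (by omega : 1 + k ≤ 4) (x := q ^ 1 - 1) (Or.inl rfl) hT
  exact ⟨T', by rwa [Nat.add_comm], (Nat.dvd_lcm_right _ _).trans hd⟩

/-- The maximal numbers. -/
theorem target_cases (hq : 1 ≤ q) {n : ℕ} (h : Target q n) :
    (n ∣ q ^ 4 + 1 ∨ n ∣ q ^ 4 - 1 ∨ n ∣ (q ^ 3 - 1) * (q + 1) ∨ n ∣ (q ^ 3 + 1) * (q - 1)) ∨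
    (n ∣ 2 * (q ^ 3 - 1) ∨ n ∣ 2 * (q ^ 3 + 1) ∨ n ∣ 2 * ((q ^ 2 + 1) * (q - 1)) ∨
      n ∣ 2 * ((q ^ 2 + 1) * (q + 1))) ∨
    (n ∣ 4 * (q ^ 2 - 1) ∨ n ∣ 4 * (q ^ 2 + 1)) ∨ (n ∣ 8 * (q - 1) ∨ n ∣ 8 * (q + 1)) := by
  obtain ⟨e, k, T, hek, he3, hT, hn⟩ := h
  have hup : ∀ j, ∀ k T, k + j = 4 - e → Good q k T → n ∣ 2 ^ e * T →
      ∃ T', Good q (4 - e) T' ∧ n ∣ 2 ^ e * T' := by
    intro j
    induction j with
    | zero => intro k T hj hT hn; exact ⟨T, by rwa [← hj], hn⟩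
    | succ j ih =>
      intro k T hj hT hn
      obtain ⟨T', h, hd⟩ := good_step hq (by omega) hT
      exact ih (k + 1) T' (by omega) h (hn.trans (Nat.mul_dvd_mul_left _ hd))
  obtain ⟨T', hT', hn'⟩ := hup (4 - e - k) k T (by omega) hT hn
  interval_cases e
  · rw [pow_zero, one_mul] at hn'
    rcases hT' with rfl | rfl | rfl | rfl <;> tauto
  · rw [pow_one] at hn'
    rcases hT' with rfl | rfl | rfl | rfl | rfl
    iterate 4 tauto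
    exact Or.inr (Or.inr (Or.inl (Or.inl (hn'.trans (Nat.mul_dvd_mul_right (by norm_num) _)))))
  · rcases hT' with rfl | rfl <;> tauto
  · rcases hT' with rfl | rfl <;> tauto

theorem target_of_dvd {m n : ℕ} (h : Target q n) (hm : m ∣ n) : Target q m := by
  obtain ⟨e, k, T, h1, h2, h3, h4⟩ := h
  exact ⟨e, k, T, h1, h2, h3, hm.trans h4⟩

end Cfsg.Agent.Lib.SpEight
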