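import Cfsg.Agent.Lib.SpSpec.Field
import Cfsg.Agent.Lib.SpEight.Numeric

/-!
Reciprocal polynomials over a finite field of characteristic two.
-/

set_option autoImplicit false
set_option linter.style.haveILetI false

namespace Cfsg.Agent.Lib.SpEight

open Polynomial

variable {F : Type*} [Field F]

/-- The monic reciprocal polynomial. -/
noncomputable def rv (f : F[X]) : F[X] := C (f.coeff 0)⁻¹ * f.reverse

theorem natTrailingDegree_zero {f : F[X]} (h0 : f.coeff 0 ≠ 0) : f.natTrailingDegree = 0 :=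
  Nat.le_zero.1 (natTrailingDegree_le_of_ne_zero h0)

theorem natDegree_reverse_eq {f : F[X]} (h0 : f.coeff 0 ≠ 0) :
    f.reverse.natDegree = f.natDegree := by
  rw [reverse_natDegree, natTrailingDegree_zero h0, Nat.sub_zero]

theorem reverse_reverse {f : F[X]} (h0 : f.coeff 0 ≠ 0) : f.reverse.reverse = f := by
  unfold reverse
  rw [show (reflect f.natDegree f).natDegree = f.natDegree from natDegree_reverse_eq h0,
    reflect_reflect]

theorem natDegree_rv {f : F[X]} (h0 : f.coeff 0 ≠ 0) : (rv f).natDegree = f.natDegree := by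
  rw [rv, natDegree_C_mul (inv_ne_zero h0), natDegree_reverse_eq h0]

theorem monic_rv {f : F[X]} (h0 : f.coeff 0 ≠ 0) : (rv f).Monic := by
  rw [rv, Monic, leadingCoeff_mul, leadingCoeff_C, reverse_leadingCoeff,
    trailingCoeff, natTrailingDegree_zero h0, inv_mul_cancel₀ h0]

theorem coeff_zero_rv {f : F[X]} (hm : f.Monic) (h0 : f.coeff 0 ≠ 0) : (rv f).coeff 0 ≠ 0 := by
  rw [rv, coeff_C_mul, coeff_zero_reverse, hm.leadingCoeff, mul_one]
  exact inv_ne_zero h0

theorem rv_rv {f : F[X]} (hm : f.Monic) (h0 : f.coeff 0 ≠ 0) : rv (rv f) = f := by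
  have hc : (rv f).coeff 0 = (f.coeff 0)⁻¹ := by
    rw [rv, coeff_C_mul, coeff_zero_reverse, hm.leadingCoeff, mul_one]
  rw [rv, hc, rv, reverse_mul_of_domain, reverse_C, reverse_reverse h0, ← mul_assoc, ← C_mul,
    inv_inv, mul_inv_cancel₀ h0, C_1, one_mul]

theorem irreducible_rv {f : F[X]} (hi : Irreducible f) (h0 : f.coeff 0 ≠ 0) : Irreducible (rv f) := by
  have hu : IsUnit (C (f.coeff 0)⁻¹ : F[X]) := isUnit_C.2 (isUnit_iff_ne_zero.2 (inv_ne_zero h0))
  rw [rv, irreducible_isUnit_mul hu]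
  have hd : 0 < f.natDegree := hi.natDegree_pos
  refine ⟨fun h => ?_, fun a b hab => ?_⟩
  · have := natDegree_eq_zero_of_isUnit h
    rw [natDegree_reverse_eq h0] at this
    omega
  · have hne : a * b ≠ 0 := by
      rw [← hab]; exact fun e => hi.ne_zero (reverse_eq_zero.1 e)
    have hab0 : a.coeff 0 ≠ 0 ∧ b.coeff 0 ≠ 0 := by
      have : (a * b).coeff 0 ≠ 0 := by
        rw [← hab, coeff_zero_reverse]; exact leadingCoeff_ne_zero.2 hi.ne_zero
      rwa [mul_coeff_zero, mul_ne_zero_iff] at this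
    have h := congrArg reverse hab
    rw [reverse_reverse h0, reverse_mul_of_domain] at h
    rcases hi.isUnit_or_isUnit h with hu | hu
    · left
      rw [isUnit_iff_degree_eq_zero, degree_eq_natDegree (left_ne_zero_of_mul hne)]
      exact_mod_cast (natDegree_reverse_eq hab0.1).symm.trans (natDegree_eq_zero_of_isUnit hu)
    · right
      rw [isUnit_iff_degree_eq_zero, degree_eq_natDegree (right_ne_zero_of_mul hne)]
      exact_mod_cast (natDegree_reverse_eq hab0.2).symm.trans (natDegree_eq_zero_of_isUnit hu)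

theorem rv_pow_dvd {f m : F[X]} {c : F} (hc : c ≠ 0) (hrev : m.reverse = C c * m) {k : ℕ}
    (hf : f.coeff 0 ≠ 0) (h : f ^ k ∣ m) : rv f ^ k ∣ m := by
  obtain ⟨h', rfl⟩ := h
  rw [reverse_mul_of_domain] at hrev
  have hp : ∀ j, (f ^ j).reverse = f.reverse ^ j := by
    intro j
    induction j with
    | zero => rw [pow_zero, pow_zero, ← C_1, reverse_C]
    | succ j ih => rw [pow_succ, pow_succ, reverse_mul_of_domain, ih]
  rw [hp] at hrev
  have hu : IsUnit (C c : F[X]) := isUnit_C.2 (isUnit_iff_ne_zero.2 hc)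
  refine hu.dvd_mul_left.1 ?_
  rw [← hrev, rv, mul_pow, ← C_pow]
  exact mul_dvd_mul_right (isUnit_C.2 (isUnit_iff_ne_zero.2
    (pow_ne_zero _ (inv_ne_zero hf)))).dvd _ |>.trans
    (by rw [one_mul]; exact dvd_mul_right _ _)

theorem X_sub_one_dvd {a b : ℕ} (h : a ∣ b) : (X ^ a - 1 : F[X]) ∣ X ^ b - 1 := by
  obtain ⟨c, rfl⟩ := h
  rw [pow_mul]
  simpa using sub_dvd_pow_sub_pow (X ^ a : F[X]) 1 c

variable [Fintype F]

/-- The tori containing the roots of an irreducible factor. -/
theorem orbit_torus {f : F[X]} (hm : f.Monic) (hi : Irreducible f) (h0 : f.coeff 0 ≠ 0)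
    (hne : f ≠ X - C 1) (h2 : Fintype.card F % 2 = 0) :
    ∃ a x, 1 ≤ a ∧ (x = Fintype.card F ^ a - 1 ∨ x = Fintype.card F ^ a + 1) ∧
      f ∣ X ^ x - 1 ∧ rv f ∣ X ^ x - 1 ∧
      (rv f = f ∧ f.natDegree = 2 * a ∨ rv f ≠ f ∧ f.natDegree = a) := by
  classical
  have key : ∀ h : F[X], Irreducible h → h.coeff 0 ≠ 0 →
      h ∣ X ^ (Fintype.card F ^ h.natDegree - 1) - 1 := by
    intro h hh h00
    haveI : Fact (Irreducible h) := ⟨hh⟩
    haveI := SpSpec.finite_adjoinRoot hh.ne_zero
    haveI := Fintype.ofFinite (AdjoinRoot h)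
    have hr : AdjoinRoot.root h ≠ 0 := by
      intro e
      have := AdjoinRoot.eval₂_root h
      rw [e, eval₂_at_zero, AdjoinRoot.of] at this
      exact h00 ((AdjoinRoot.of h).injective (by rwa [map_zero]))
    have := FiniteField.pow_card_sub_one_eq_one _ hr
    rw [← Nat.card_eq_fintype_card, SpSpec.natCard_adjoinRoot hh.ne_zero] at this
    rw [← AdjoinRoot.mk_eq_zero, map_sub, map_pow, AdjoinRoot.mk_X, map_one, this, sub_self]
  by_cases hs : rv f = f
  · haveI : Fact (Irreducible f) := ⟨hi⟩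
    haveI := SpSpec.finite_adjoinRoot hi.ne_zero
    have hk := key f hi h0
    rw [← AdjoinRoot.mk_eq_zero, map_sub, map_pow, AdjoinRoot.mk_X, map_one, sub_eq_zero] at hk
    have hodd : Odd (Fintype.card F ^ f.natDegree - 1) := by
      have hev : Even (Fintype.card F ^ f.natDegree) :=
        (Nat.even_iff.2 h2).pow_of_ne_zero hi.natDegree_pos.ne'
      exact Nat.Even.sub_odd (Nat.one_le_pow _ _ Fintype.card_pos) hev odd_one
    have hr1 : AdjoinRoot.root f ≠ 1 := by
      intro e
      apply hne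
      have hd : f ∣ X - C 1 := by
        rw [← AdjoinRoot.mk_eq_zero, map_sub, AdjoinRoot.mk_X, AdjoinRoot.mk_C, map_one, e, sub_self]
      exact eq_of_monic_of_associated hm (monic_X_sub_C 1)
        (hi.associated_of_dvd (irreducible_X_sub_C 1) hd)
    have hr0 : AdjoinRoot.root f ≠ 0 := fun e => by
      rw [e, zero_pow hodd.pos.ne'] at hk; exact zero_ne_one hk
    have hinv : aeval (AdjoinRoot.root f)⁻¹ f = 0 := by
      have hrev : eval₂ (AdjoinRoot.of f) (AdjoinRoot.root f) f.reverse = 0 := by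
        have := (congrArg (eval₂ (AdjoinRoot.of f) (AdjoinRoot.root f)) hs).trans
          (AdjoinRoot.eval₂_root f)
        rw [rv, eval₂_mul, eval₂_C] at this
        exact (mul_eq_zero.1 this).resolve_left
          ((map_ne_zero_iff _ (AdjoinRoot.of f).injective).2 (inv_ne_zero h0))
      letI := invertibleOfNonzero hr0
      have := (eval₂_reverse_eq_zero_iff (AdjoinRoot.of f) (⅟ (AdjoinRoot.root f)) f).1 (by
        simpa using hrev)
      rw [aeval_def, AdjoinRoot.algebraMap_eq, ← invOf_eq_inv]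
      exact this
    obtain ⟨d, hd, hpow⟩ := SpSpec.norm_one_of_inverse_root hi hodd hk hr1 hinv
    have hdiv : f ∣ X ^ (Fintype.card F ^ d + 1) - 1 := by
      rw [← AdjoinRoot.mk_eq_zero, map_sub, map_pow, AdjoinRoot.mk_X, map_one, hpow, sub_self]
    exact ⟨d, _, by have := hi.natDegree_pos; omega, Or.inr rfl, hdiv, hs.symm ▸ hdiv,
      Or.inl ⟨hs, hd⟩⟩
  · refine ⟨f.natDegree, _, hi.natDegree_pos, Or.inl rfl, key f hi h0, ?_, Or.inr ⟨hs, rfl⟩⟩
    have := key (rv f) (irreducible_rv hi h0) (coeff_zero_rv hm h0)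
    rwa [natDegree_rv h0] at this

end Cfsg.Agent.Lib.SpEight
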