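import Cfsg.Agent.Lib.SpSpec.Split
import Cfsg.Agent.Lib.SpEight.Recip

/-!
The orders of isometries of an eight-dimensional alternating form in characteristic two.
-/

set_option autoImplicit false
set_option linter.style.haveILetI false

namespace Cfsg.Agent.Lib.SpEight

open Polynomial UniqueFactorizationMonoid
open Cfsg.Agent.Lib.SpSpec (Isom Adj)

variable {F V : Type*} [Field F] [Fintype F] [CharP F 2] [AddCommGroup V] [Module F V]
  [Module.Finite F V]

theorem card_mod_two : Fintype.card F % 2 = 0 := by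
  obtain ⟨n, hp, h⟩ := FiniteField.card F 2
  rw [h, Nat.pow_mod]
  simp

open Classical in
/-- The structure of the minimal polynomial of an isometry. -/
theorem structure_minpoly {B : LinearMap.BilinForm F V} (hB : B.Nondegenerate)
    (hd : Module.finrank F V = 8) {g : Module.End F V} (hg : Isom B g) (hfin : 0 < orderOf g) :
    ∃ (S : Finset F[X]) (c : F[X] → ℕ) (k L : ℕ), minpoly F g = ∏ f ∈ S, f ^ c f ∧
      (∀ f ∈ S, Irreducible f ∧ f.Monic ∧ 1 ≤ c f ∧ f ∣ X ^ L - 1) ∧
      (∀ f ∈ S, f ≠ X - C 1 → 2 * k + 2 * c f ≤ 10) ∧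
      (minpoly F g).natDegree ≤ 8 ∧
      Good (Fintype.card F) k L ∧
      (if X - C 1 ∈ S then c (X - C 1) else 0) + 2 * k ≤ (minpoly F g).natDegree := by
  classical
  set N := orderOf g with hN
  have hgN : g ^ N = 1 := pow_orderOf_eq_one g
  set m := minpoly F g with hm
  have hint : IsIntegral F g := Algebra.IsIntegral.isIntegral g
  have hmon : m.Monic := minpoly.monic hint
  have hm0 : m ≠ 0 := hmon.ne_zero
  have hdeg : m.natDegree ≤ 8 := by
    rw [← hd, ← LinearMap.charpoly_natDegree g]
    exact natDegree_le_of_dvd (LinearMap.minpoly_dvd_charpoly g) (LinearMap.charpoly_monic g).ne_zero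
  have hmX : m ∣ X ^ N - 1 := minpoly.dvd _ _ (by rw [map_sub, map_pow, aeval_X, map_one, hgN, sub_self])
  have hmc : m ∣ m.comp (X ^ (N - 1)) := by
    refine minpoly.dvd _ _ ?_
    rw [aeval_comp, map_pow, aeval_X]
    have hadj : Adj B g (g ^ (N - 1)) := hg.adj (by
      rw [← pow_succ', show N - 1 + 1 = N by omega, hgN])
    have h0 : Adj B (aeval g m) 0 := by
      rw [hm, minpoly.aeval]; intro u v; simp
    exact (hadj.aeval m).unique hB h0
  obtain ⟨c₀, hc₀, hrev⟩ : ∃ c₀ : F, c₀ ≠ 0 ∧ m.reverse = C c₀ * m := by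
    have hone : AdjoinRoot.root m ^ N = 1 := by
      have := AdjoinRoot.mk_eq_zero.2 hmX
      rwa [map_sub, map_pow, AdjoinRoot.mk_X, map_one, sub_eq_zero] at this
    letI : Invertible (AdjoinRoot.root m) := ⟨AdjoinRoot.root m ^ (N - 1),
      by rw [← pow_succ, show N - 1 + 1 = N by omega, hone],
      by rw [← pow_succ', show N - 1 + 1 = N by omega, hone]⟩
    letI : Invertible (⅟ (AdjoinRoot.root m)) := invertibleInvOf
    have h1 : eval₂ (AdjoinRoot.of m) (⅟ (AdjoinRoot.root m)) m = 0 := by
      show eval₂ (AdjoinRoot.of m) (AdjoinRoot.root m ^ (N - 1)) m = 0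
      have := AdjoinRoot.mk_eq_zero.2 hmc
      rwa [← AdjoinRoot.aeval_eq, aeval_comp, map_pow, aeval_X, aeval_def,
        AdjoinRoot.algebraMap_eq] at this
    have h2 : eval₂ (AdjoinRoot.of m) (AdjoinRoot.root m) m.reverse = 0 := by
      have := (eval₂_reverse_eq_zero_iff (AdjoinRoot.of m) (⅟ (AdjoinRoot.root m)) m).2 h1
      simpa using this
    have h3 : m ∣ m.reverse := by
      rw [← AdjoinRoot.mk_eq_zero, ← AdjoinRoot.aeval_eq, aeval_def, AdjoinRoot.algebraMap_eq]
      exact h2
    refine ⟨m.reverse.leadingCoeff, leadingCoeff_ne_zero.2 fun e => hm0 (reverse_eq_zero.1 e), ?_⟩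
    exact eq_leadingCoeff_mul_of_monic_of_dvd_of_natDegree_le hmon h3 (reverse_natDegree_le m)
  set S := (normalizedFactors m).toFinset with hS
  set c : F[X] → ℕ := fun f => (normalizedFactors m).count f with hc
  have hprod : m = ∏ f ∈ S, f ^ c f := by
    rw [hS, hc, ← Finset.prod_multiset_count]
    refine (eq_of_monic_of_associated (p := (normalizedFactors m).prod) ?_ hmon
      (prod_normalizedFactors hm0)).symm
    have := monic_multiset_prod_of_monic (normalizedFactors m) id fun f hf => by
      rw [id, ← normalize_normalized_factor f hf]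
      exact monic_normalize (irreducible_of_normalized_factor f hf).ne_zero
    rwa [Multiset.map_id] at this
  have hfac : ∀ f ∈ S, Irreducible f ∧ f.Monic ∧ 1 ≤ c f ∧ f.coeff 0 ≠ 0 := by
    intro f hf
    rw [hS, Multiset.mem_toFinset] at hf
    have hi := irreducible_of_normalized_factor f hf
    refine ⟨hi, ?_, Multiset.one_le_count_iff_mem.2 hf, fun h0 => ?_⟩
    · rw [← normalize_normalized_factor f hf]; exact monic_normalize hi.ne_zero
    · have h1 : X ∣ X ^ N - (1 : F[X]) :=
        (X_dvd_iff.2 h0).trans ((dvd_of_mem_normalizedFactors hf).trans hmX)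
      rw [X_dvd_iff, coeff_sub, coeff_X_pow, coeff_one, if_neg (by omega), if_pos rfl] at h1
      simp at h1
  have hle : ∀ f ∈ S, rv f ∈ S ∧ c f ≤ c (rv f) := by
    intro f hf
    obtain ⟨hi, hmf, hc1, h0⟩ := hfac f hf
    have hdvd : f ^ c f ∣ m := by
      rw [hprod]; exact Finset.dvd_prod_of_mem (fun h => h ^ c h) hf
    have h2 := rv_pow_dvd hc₀ hrev h0 hdvd
    have hr := irreducible_rv hi h0
    rw [dvd_iff_normalizedFactors_le_normalizedFactors (pow_ne_zero _ hr.ne_zero) hm0,
      normalizedFactors_pow, normalizedFactors_irreducible hr,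
      (monic_rv h0).normalize_eq_self] at h2
    have h3 := Multiset.count_le_of_le (rv f) h2
    rw [Multiset.count_nsmul, Multiset.count_singleton_self, mul_one] at h3
    have h4 : c f ≤ c (rv f) := h3
    exact ⟨by rw [hS, Multiset.mem_toFinset]; exact Multiset.one_le_count_iff_mem.1 (hc1.trans h4), h4⟩
  have hrv : ∀ f ∈ S, rv f ∈ S ∧ c (rv f) = c f ∧ rv (rv f) = f := by
    intro f hf
    obtain ⟨hi, hmf, -, h0⟩ := hfac f hf
    refine ⟨(hle f hf).1, le_antisymm ?_ (hle f hf).2, rv_rv hmf h0⟩
    have := (hle _ (hle f hf).1).2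
    rwa [rv_rv hmf h0] at this
  set S' := S.erase (X - C 1) with hS'
  have hone : rv (X - C (1 : F)) = X - C 1 := by
    have h0 : (X - C (1 : F)).coeff 0 ≠ 0 := by simp
    refine eq_of_monic_of_dvd_of_natDegree_le (monic_X_sub_C 1) (monic_rv h0) ?_
      (by rw [natDegree_rv h0]) |>.symm ▸ ?_
    · rw [dvd_iff_isRoot, IsRoot.def, rv, eval_mul, eval_C, coeff_zero_eq_eval_zero]
      have : (X - C (1 : F)).reverse.eval 1 = 0 := by
        letI : Invertible (1 : F) := invertibleOne
        have := (eval₂_reverse_eq_zero_iff (RingHom.id F) (1 : F) (X - C (1 : F))).2 (by simp)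
        simpa [eval₂_id] using this
      rw [this, mul_zero]
    · rfl
  have hS'rv : ∀ f ∈ S', rv f ∈ S' := by
    intro f hf
    rw [hS', Finset.mem_erase] at hf ⊢
    refine ⟨fun e => hf.1 ?_, (hrv f hf.2).1⟩
    rw [← (hrv f hf.2).2.2, e, hone]
  have hind : ∀ n, ∀ T ⊆ S', T.card = n → (∀ f ∈ T, rv f ∈ T) →
      (∑ f ∈ T, f.natDegree) ≤ 8 → ∃ k L, (∑ f ∈ T, f.natDegree) = 2 * k ∧
        Good (Fintype.card F) k L ∧ (∀ f ∈ T, f ∣ X ^ L - 1) ∧
        ∀ f ∈ T, 2 * k + 2 * (c f - 1) ≤ ∑ h ∈ T, c h * h.natDegree := by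
    intro n
    induction n using Nat.strong_induction_on with
    | _ n ih =>
      intro T hT hcard hclosed hsum
      rcases T.eq_empty_or_nonempty with rfl | ⟨f, hf⟩
      · exact ⟨0, 1, by simp, rfl, by simp, by simp⟩
      obtain ⟨hne, hfS⟩ := Finset.mem_erase.1 (hT hf)
      obtain ⟨hi, hmf, hc1, h0⟩ := hfac f hfS
      obtain ⟨hrS, hceq, hrr⟩ := hrv f hfS
      obtain ⟨a, x, ha, hx, hfx, hrx, hcase⟩ := orbit_torus hmf hi h0 hne card_mod_two
      set O : Finset F[X] := {f, rv f} with hO
      have hOT : O ⊆ T := by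
        intro h hh
        rw [hO, Finset.mem_insert, Finset.mem_singleton] at hh
        rcases hh with rfl | rfl
        exacts [hf, hclosed _ hf]
      have hclosed' : ∀ h ∈ T \ O, rv h ∈ T \ O := by
        intro h hh
        rw [Finset.mem_sdiff, hO, Finset.mem_insert, Finset.mem_singleton] at hh ⊢
        refine ⟨hclosed h hh.1, fun e => hh.2 ?_⟩
        have hhr := (hrv h (Finset.mem_of_mem_erase (hT hh.1))).2.2
        rcases e with e | e
        · exact Or.inr (by rw [← hhr, e])
        · exact Or.inl (by rw [← hhr, e, hrr])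
      have hsO : (∑ h ∈ O, h.natDegree) = 2 * a ∧
          (∑ h ∈ O, c h * h.natDegree) = c f * (2 * a) := by
        rcases hcase with ⟨he, hdg⟩ | ⟨he, hdg⟩
        · rw [hO, he, Finset.pair_eq_singleton, Finset.sum_singleton, Finset.sum_singleton, hdg]
          exact ⟨rfl, rfl⟩
        · rw [hO, Finset.sum_pair (Ne.symm he), Finset.sum_pair (Ne.symm he), natDegree_rv h0, hceq,
            hdg]
          constructor <;> ring
      have hsplit := Finset.sum_sdiff (f := fun h : F[X] => h.natDegree) hOT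
      have hsplit' := Finset.sum_sdiff (f := fun h : F[X] => c h * h.natDegree) hOT
      simp only [hsO.1] at hsplit
      simp only [hsO.2] at hsplit'
      have hlt : (T \ O).card < n := by
        rw [← hcard]
        exact Finset.card_lt_card (Finset.ssubset_iff_of_subset Finset.sdiff_subset |>.2
          ⟨f, hf, by simp [hO]⟩)
      obtain ⟨k', L', hk', hG', hdv', hex'⟩ :=
        ih _ hlt (T \ O) (Finset.sdiff_subset.trans hT) rfl hclosed' (by omega)
      obtain ⟨L, hL, hLd⟩ := merge (Fintype.card_pos) ha (by omega : a + k' ≤ 4) hx hG'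
      have hxL := X_sub_one_dvd (F := F) ((Nat.dvd_lcm_left _ _).trans hLd)
      have hlL := X_sub_one_dvd (F := F) ((Nat.dvd_lcm_right _ _).trans hLd)
      have hbig : 2 * (c f - 1) + 2 * a ≤ c f * (2 * a) := by
        obtain ⟨c', hc'⟩ : ∃ c', c f = c' + 1 := ⟨c f - 1, by omega⟩
        rw [hc', Nat.add_sub_cancel, show (c' + 1) * (2 * a) = c' * (2 * a) + 2 * a by ring]
        have : c' * 2 ≤ c' * (2 * a) := Nat.mul_le_mul_left _ (by omega)
        omega
      have hmono : 2 * k' ≤ ∑ h ∈ T \ O, c h * h.natDegree := by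
        rw [← hk']
        exact Finset.sum_le_sum fun h hh => Nat.le_mul_of_pos_left _
          (hfac h (Finset.mem_of_mem_erase (hT (Finset.mem_sdiff.1 hh).1))).2.2.1
      refine ⟨a + k', L, by omega, hL, fun h hh => ?_, fun h hh => ?_⟩
      · by_cases ho : h ∈ O
        · rw [hO, Finset.mem_insert, Finset.mem_singleton] at ho
          rcases ho with rfl | rfl
          exacts [hfx.trans hxL, hrx.trans hxL]
        · exact (hdv' h (Finset.mem_sdiff.2 ⟨hh, ho⟩)).trans hlL
      · have hca : 2 * a ≤ c f * (2 * a) := Nat.le_mul_of_pos_left _ hc1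
        by_cases ho : h ∈ O
        · have : c h = c f := by
            rw [hO, Finset.mem_insert, Finset.mem_singleton] at ho
            rcases ho with rfl | rfl
            exacts [rfl, hceq]
          omega
        · have := hex' h (Finset.mem_sdiff.2 ⟨hh, ho⟩)
          omega
  have hdm : m.natDegree = ∑ f ∈ S, c f * f.natDegree := by
    conv_lhs => rw [hprod]
    rw [natDegree_prod _ _ fun f hf => pow_ne_zero _ (hfac f hf).1.ne_zero]
    exact Finset.sum_congr rfl fun f _ => natDegree_pow f (c f)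
  have hsum' : (∑ f ∈ S', c f * f.natDegree) + (if X - C 1 ∈ S then c (X - C 1) else 0) =
      m.natDegree := by
    rw [hdm]
    split_ifs with h1
    · rw [hS', ← Finset.sum_erase_add _ _ h1, natDegree_X_sub_C, mul_one]
    · rw [hS', Finset.erase_eq_of_notMem h1, add_zero]
  have hmon' : (∑ f ∈ S', f.natDegree) ≤ ∑ f ∈ S', c f * f.natDegree :=
    Finset.sum_le_sum fun f hf => Nat.le_mul_of_pos_left _ (hfac f (Finset.mem_of_mem_erase hf)).2.2.1
  obtain ⟨k, L, hk, hG, hdv, hex⟩ :=
    hind _ S' subset_rfl rfl hS'rv (by omega)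
  refine ⟨S, c, k, L, hprod, fun f hf => ⟨(hfac f hf).1, (hfac f hf).2.1, (hfac f hf).2.2.1, ?_⟩,
    fun f hf hne => ?_, hdeg, hG, by omega⟩
  · by_cases h1 : f = X - C 1
    · subst h1
      rw [C_1]
      exact sub_one_dvd_pow_sub_one X L
    · exact hdv f (Finset.mem_erase.2 ⟨h1, hf⟩)
  · have := hex f (Finset.mem_erase.2 ⟨hne, hf⟩)
    have := (hfac f hf).2.2.1
    omega

/-- The kernel of `g - 1` is a line when the minimal polynomial has degree eight. -/
theorem finrank_ker_le_one (hd : Module.finrank F V = 8) {g : Module.End F V}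
    (h : (minpoly F g).natDegree = 8) : Module.finrank F (LinearMap.ker (g - 1)) ≤ 1 := by
  by_contra hc
  set K := LinearMap.ker (g - 1) with hK
  have hKg : ∀ x ∈ K, g x = x := fun x hx => sub_eq_zero.1 (LinearMap.mem_ker.1 hx)
  have hinv : K ≤ K.comap g := fun x hx => by rw [Submodule.mem_comap, hKg x hx]; exact hx
  let g' : Module.End F (V ⧸ K) := K.mapQ K g hinv
  set P := g'.charpoly with hP
  have hmk : ∀ x, g' (Submodule.Quotient.mk x) = Submodule.Quotient.mk (g x) := fun x => rfl
  have hpow : ∀ (Q : F[X]) x, aeval g' Q (Submodule.Quotient.mk x) =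
      Submodule.Quotient.mk (aeval g Q x) := by
    intro Q
    induction Q using Polynomial.induction_on' with
    | add a b ha hb => intro x; simp [ha, hb]
    | monomial n c =>
      intro x
      simp only [aeval_monomial, ← Algebra.smul_def, LinearMap.smul_apply, Submodule.Quotient.mk_smul]
      congr 1
      induction n with
      | zero => rfl
      | succ n ih => rw [pow_succ', pow_succ', Module.End.mul_apply, Module.End.mul_apply, ih, hmk]
  have h0 : aeval g ((X - C 1) * P) = 0 := by
    refine LinearMap.ext fun x => ?_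
    rw [map_mul, Module.End.mul_apply, map_sub, aeval_X, aeval_C, map_one]
    refine LinearMap.mem_ker.1 ?_
    rw [← hK, ← Submodule.Quotient.mk_eq_zero, ← hpow, hP, LinearMap.aeval_self_charpoly]
    rfl
  have hdeg := natDegree_le_of_dvd (minpoly.dvd F g h0)
    (mul_ne_zero (X_sub_C_ne_zero 1) (LinearMap.charpoly_monic g').ne_zero)
  rw [natDegree_mul (X_sub_C_ne_zero 1) (LinearMap.charpoly_monic g').ne_zero, natDegree_X_sub_C,
    LinearMap.charpoly_natDegree, h] at hdeg
  have := Submodule.finrank_quotient_add_finrank K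
  omega

/-- The orders of the isometries. -/
theorem target_orderOf {B : LinearMap.BilinForm F V} (hB : B.Nondegenerate)
    (hd : Module.finrank F V = 8) {g : Module.End F V} (hg : Isom B g) (hfin : 0 < orderOf g) :
    Target (Fintype.card F) (orderOf g) ∧
    ((∑ i ∈ Finset.range (orderOf g), g ^ i) ≠ 0 →
      Module.finrank F (LinearMap.ker (g - 1)) ≠ 1 →
      Target (Fintype.card F) (2 * orderOf g)) := by
  classical
  obtain ⟨S, c, k, L, hprod, hS, hexc, hdeg, hG, hm0⟩ := structure_minpoly hB hd hg hfin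
  set m := minpoly F g with hm
  haveI : CharP F[X] 2 := inferInstance
  have hcop : ∀ T ⊆ S, Set.Pairwise (↑T : Set F[X])
      (Function.onFun IsCoprime fun f => f ^ c f) := by
    intro T hT f hf h hh hne
    refine (((hS f (hT hf)).1.coprime_iff_not_dvd).2 fun hd' => hne ?_).pow
    exact eq_of_monic_of_associated (hS f (hT hf)).2.1 (hS h (hT hh)).2.1
      ((hS f (hT hf)).1.associated_of_dvd (hS h (hT hh)).1 hd')
  have hpow : ∀ e, (∀ f ∈ S, c f ≤ 2 ^ e) → g ^ (2 ^ e * L) = 1 := by
    intro e he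
    have hd' : m ∣ X ^ (2 ^ e * L) - 1 := by
      rw [hprod]
      refine Finset.prod_dvd_of_coprime (hcop S subset_rfl) fun f hf => ?_
      rw [mul_comm, pow_mul,
        show (X ^ L) ^ 2 ^ e - 1 = (X ^ L - 1 : F[X]) ^ 2 ^ e by rw [sub_pow_char_pow, one_pow]]
      exact (pow_dvd_pow_of_dvd (hS f hf).2.2.2 (c f)).trans (pow_dvd_pow _ (he f hf))
    obtain ⟨r, hr⟩ := hd'
    have := congrArg (aeval g) hr
    rwa [map_sub, map_pow, aeval_X, map_one, map_mul, minpoly.aeval, zero_mul, sub_eq_zero] at this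
  have hVnt : 0 < m.natDegree := by
    haveI : Nontrivial V := Module.nontrivial_of_finrank_pos (R := F) (by omega)
    exact minpoly.natDegree_pos (Algebra.IsIntegral.isIntegral g)
  obtain ⟨e, hek, he3, he⟩ : ∃ e, e + k ≤ 4 ∧ e ≤ 3 ∧ ∀ f ∈ S, c f ≤ 2 ^ e := by
    set M := S.sup c with hM
    have hle : ∀ f ∈ S, c f ≤ M := fun f hf => Finset.le_sup hf
    rcases S.eq_empty_or_nonempty with hSe | hSn
    · exfalso
      rw [hprod, hSe, Finset.prod_empty, natDegree_one] at hVnt
      omega
    obtain ⟨f₀, hf₀, hfM⟩ := Finset.exists_mem_eq_sup S hSn c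
    rw [← hM] at hfM
    have hbound : 2 * k + M ≤ 8 ∨ 2 * k + 2 * M ≤ 10 := by
      by_cases h1 : f₀ = X - C 1
      · subst h1
        rw [if_pos hf₀] at hm0
        omega
      · right; rw [hfM]; exact hexc f₀ hf₀ h1
    rcases Nat.lt_or_ge M 2 with h | h
    · exact ⟨0, by omega, by omega, fun f hf => (hle f hf).trans (by omega)⟩
    rcases Nat.lt_or_ge M 3 with h' | h'
    · exact ⟨1, by omega, by omega, fun f hf => (hle f hf).trans (by omega)⟩
    rcases Nat.lt_or_ge M 5 with h'' | h''
    · exact ⟨2, by omega, by omega, fun f hf => (hle f hf).trans (by omega)⟩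
    · exact ⟨3, by omega, by omega, fun f hf => (hle f hf).trans (by omega)⟩
  have hdvd : orderOf g ∣ 2 ^ e * L := orderOf_dvd_of_pow_eq_one (hpow e he)
  refine ⟨⟨e, k, L, hek, he3, hG, hdvd⟩, fun hsum hker => ?_⟩
  set d := orderOf g with hdd
  obtain ⟨s, o, ho, hso⟩ := Nat.exists_eq_two_pow_mul_odd (Nat.pos_iff_ne_zero.1 hfin)
  have hoL : o ∣ L := by
    refine (Nat.Coprime.pow_right e (Nat.coprime_two_right.2 ho)).dvd_of_dvd_mul_left ?_
    exact (Dvd.intro_left _ hso.symm).trans hdvd
  have h1S : 2 ^ s ≤ if X - C 1 ∈ S then c (X - C 1) else 0 := by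
    by_contra hlt
    rw [not_le] at hlt
    apply hsum
    set P : F[X] := ∑ i ∈ Finset.range d, X ^ i with hP
    have hPX : P * (X - C 1) = (X ^ o - 1) ^ 2 ^ s := by
      rw [C_1, hP, geom_sum_mul, hso, mul_comm (2 ^ s), pow_mul, sub_pow_char_pow, one_pow]
    suffices hmP : m ∣ P by
      obtain ⟨r, hr⟩ := hmP
      have := congrArg (aeval g) hr
      rw [map_mul, minpoly.aeval, zero_mul, hP, map_sum] at this
      simpa using this
    have hp1 : X - C (1 : F) ∣ X ^ o - 1 := by
      rw [C_1]; exact sub_one_dvd_pow_sub_one X o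
    refine (mul_dvd_mul_iff_right (X_sub_C_ne_zero (1 : F))).1 ?_
    rw [hPX]
    have hmd : m ∣ (X ^ o - 1) ^ 2 ^ s := by
      rw [← hPX, C_1, hP, geom_sum_mul]
      exact minpoly.dvd _ _ (by
        rw [map_sub, map_pow, aeval_X, map_one, hdd, pow_orderOf_eq_one, sub_self])
    by_cases h1 : X - C 1 ∈ S
    · rw [if_pos h1] at hlt
      rw [hprod, ← Finset.prod_erase_mul _ _ h1, mul_assoc, ← pow_succ]
      refine IsCoprime.mul_dvd ?_ ?_
        ((pow_dvd_pow_of_dvd hp1 _).trans (pow_dvd_pow _ (by omega)))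
      · refine IsCoprime.prod_left fun f hf => ?_
        obtain ⟨hne, hfS⟩ := Finset.mem_erase.1 hf
        refine (((hS f hfS).1.coprime_iff_not_dvd).2 fun hd' => hne ?_).pow
        exact eq_of_monic_of_associated (hS f hfS).2.1 (monic_X_sub_C 1)
          ((hS f hfS).1.associated_of_dvd (irreducible_X_sub_C 1) hd')
      · refine dvd_trans ?_ hmd
        rw [hprod]
        exact Finset.prod_dvd_prod_of_subset _ _ _ (Finset.erase_subset _ _)
    · rw [hprod]
      refine IsCoprime.mul_dvd ?_ ?_ (hp1.trans (dvd_pow_self _ (by positivity)))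
      · refine IsCoprime.prod_left fun f hf => ?_
        refine IsCoprime.pow_left ((hS f hf).1.coprime_iff_not_dvd.2 fun hd' => h1 ?_)
        rwa [← eq_of_monic_of_associated (hS f hf).2.1 (monic_X_sub_C 1)
          ((hS f hf).1.associated_of_dvd (irreducible_X_sub_C 1) hd')]
      · rwa [← hprod]
  have hpos : 0 < 2 ^ s := Nat.two_pow_pos s
  by_cases hbad : s + 1 + k ≤ 4 ∧ s + 1 ≤ 3
  · refine ⟨s + 1, k, L, hbad.1, hbad.2, hG, ?_⟩
    rw [hso, pow_succ', mul_assoc]
    exact Nat.mul_dvd_mul_left 2 (Nat.mul_dvd_mul_left _ hoL)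
  · exfalso
    have h8 : m.natDegree = 8 := by
      have hs3 : s ≤ 3 := by
        by_contra h
        have : 2 ^ 4 ≤ 2 ^ s := Nat.pow_le_pow_right (by norm_num) (by omega)
        omega
      interval_cases s <;> omega
    have hle := finrank_ker_le_one hd h8
    have h0 : Module.finrank F (LinearMap.ker (g - 1)) = 0 := by omega
    rw [Submodule.finrank_eq_zero] at h0
    have h1 : X - C 1 ∈ S := by
      by_contra h; rw [if_neg h] at h1S; omega
    have hm1 : X - C 1 ∣ m := by
      rw [hprod]
      exact (dvd_pow_self _ (by have := (hS _ h1).2.2.1; omega)).trans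
        (Finset.dvd_prod_of_mem (fun h => h ^ c h) h1)
    obtain ⟨r, hr⟩ := hm1
    have hr0 : aeval g r = 0 := by
      refine LinearMap.ext fun x => ?_
      have := congrArg (fun q : Module.End F V => q x) (congrArg (aeval g) hr)
      simp only [hm, minpoly.aeval, map_mul, Module.End.mul_apply, LinearMap.zero_apply, map_sub,
        aeval_X, aeval_C, map_one] at this
      exact (Submodule.mem_bot F).1 (h0 ▸ LinearMap.mem_ker.2 this.symm)
    have hrne : r ≠ 0 := fun e => by
      rw [e, mul_zero] at hr; exact minpoly.ne_zero (Algebra.IsIntegral.isIntegral g) (hm ▸ hr)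
    have hdd' := natDegree_le_of_dvd (minpoly.dvd F g hr0) hrne
    rw [← hm, hr, natDegree_mul (X_sub_C_ne_zero 1) hrne, natDegree_X_sub_C] at hdd'
    omega

end Cfsg.Agent.Lib.SpEight
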