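import Cfsg.Agent.Lib.SpEight.Blocks
import Cfsg.Agent.Lib.SpEight.Numeric
import Cfsg.Agent.Lib.SpSpec.Elements

/-!
Isometries of the standard forms of dimension eight in characteristic two.
-/

set_option autoImplicit false
set_option linter.unusedSectionVars false
set_option linter.style.haveILetI false

namespace Cfsg.Agent.Lib.SpEight

open Finset Matrix
open Cfsg (quadFormPlus quadFormMinus)

variable {F : Type*} [Field F]

theorem eqv_plus_plus (k l : ℕ) :
    Eqv (qsum (quadFormPlus k F) (quadFormPlus l F)) (quadFormPlus (k + l) F) := by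
  let σ := (Equiv.sumSumSumComm (Fin k) (Fin k) (Fin l) (Fin l)).trans
    (Equiv.sumCongr finSumFinEquiv finSumFinEquiv)
  refine ⟨(LinearEquiv.sumArrowLequivProdArrow _ _ F F).symm.trans
    (LinearEquiv.funCongrLeft F F σ.symm), fun v => ?_⟩
  simp [qsum, quadFormPlus, Fin.sum_univ_add, σ, LinearEquiv.sumArrowLequivProdArrow,
    Equiv.sumArrowEquivProdArrow]

theorem eqv_plus_minus (k l : ℕ) (a b : F) :
    Eqv (qsum (quadFormPlus k F) (quadFormMinus l F a b)) (quadFormMinus (k + l) F a b) := by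
  let σ := (Equiv.sumAssoc (Fin k ⊕ Fin k) (Fin l ⊕ Fin l) (Fin 2)).symm.trans
    (Equiv.sumCongr ((Equiv.sumSumSumComm (Fin k) (Fin k) (Fin l) (Fin l)).trans
      (Equiv.sumCongr finSumFinEquiv finSumFinEquiv)) (Equiv.refl (Fin 2)))
  refine ⟨(LinearEquiv.sumArrowLequivProdArrow _ _ F F).symm.trans
    (LinearEquiv.funCongrLeft F F σ.symm), fun v => ?_⟩
  simp [qsum, quadFormPlus, quadFormMinus, Fin.sum_univ_add, σ, LinearEquiv.sumArrowLequivProdArrow,
    Equiv.sumArrowEquivProdArrow, add_assoc]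

theorem eqv_hyp : Eqv (hyp F) (quadFormPlus 1 F) :=
  ⟨{ toFun := fun p => Sum.elim (fun _ => p.1) (fun _ => p.2)
     map_add' := fun p r => by ext (i | i) <;> rfl
     map_smul' := fun c p => by ext (i | i) <;> rfl
     invFun := fun v => (v (.inl 0), v (.inr 0))
     left_inv := fun p => rfl
     right_inv := fun v => by ext (i | i) <;> simp [Subsingleton.elim i 0] },
    fun p => by show ∑ _i : Fin 1, p.1 * p.2 = p.1 * p.2; simp⟩

theorem anisotropic_ne_zero [Fintype F] [CharP F 2] {a b : F}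
    (han : ∀ z₁ z₂ : F, z₁ ^ 2 + a * z₁ * z₂ + b * z₂ ^ 2 = 0 → z₁ = 0 ∧ z₂ = 0) : a ≠ 0 := by
  intro ha
  obtain ⟨r, hr⟩ := FiniteField.isSquare_of_char_two (ringChar.eq F 2) b
  refine one_ne_zero (han r 1 ?_).2
  rw [ha, hr]
  linear_combination CharTwo.two_eq_zero (R := F) * (r * r)

theorem eqv_minus_minus [CharP F 2] {a : F} (ha : a ≠ 0) (b : F) :
    Eqv (qsum (quadFormMinus 0 F a b) (quadFormMinus 0 F a b)) (quadFormPlus 2 F) := by
  let f : ((Fin 0 ⊕ Fin 0) ⊕ Fin 2 → F) × ((Fin 0 ⊕ Fin 0) ⊕ Fin 2 → F) →ₗ[F] (Fin 2 ⊕ Fin 2 → F) :=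
    { toFun := fun p => Sum.elim ![p.1 (.inr 0) + p.2 (.inr 0), p.1 (.inr 1) + p.2 (.inr 1)]
        ![p.1 (.inr 0) + p.2 (.inr 0) + a * p.2 (.inr 1) + a * (p.1 (.inr 1) + p.2 (.inr 1)),
          b * (p.1 (.inr 1) + p.2 (.inr 1)) + a * p.2 (.inr 0)]
      map_add' := fun p r => by ext (i | i) <;> fin_cases i <;> simp <;> ring
      map_smul' := fun c p => by ext (i | i) <;> fin_cases i <;> simp <;> ring }
  have hinj : Function.Injective f := by
    rw [← LinearMap.ker_eq_bot, Submodule.eq_bot_iff]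
    intro p hp
    have h := fun i => congrFun (LinearMap.mem_ker.1 hp) i
    have h0 : p.1 (.inr 0) + p.2 (.inr 0) = 0 := h (.inl 0)
    have h1 : p.1 (.inr 1) + p.2 (.inr 1) = 0 := h (.inl 1)
    have h2 : p.1 (.inr 0) + p.2 (.inr 0) + a * p.2 (.inr 1) +
      a * (p.1 (.inr 1) + p.2 (.inr 1)) = 0 := h (.inr 0)
    have h3 : b * (p.1 (.inr 1) + p.2 (.inr 1)) + a * p.2 (.inr 0) = 0 := h (.inr 1)
    rw [h0, h1, mul_zero, add_zero, zero_add] at h2
    rw [h1, mul_zero, zero_add] at h3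
    have e1 := (mul_eq_zero.1 h2).resolve_left ha
    have e0 := (mul_eq_zero.1 h3).resolve_left ha
    rw [e0, add_zero] at h0
    rw [e1, add_zero] at h1
    refine Prod.ext ?_ ?_ <;> funext i <;> rcases i with (i | i) | i
    · exact i.elim0
    · exact i.elim0
    · fin_cases i
      exacts [h0, h1]
    · exact i.elim0
    · exact i.elim0
    · fin_cases i
      exacts [e0, e1]
  refine ⟨f.linearEquivOfInjective hinj (by simp), fun p => ?_⟩
  rw [LinearMap.linearEquivOfInjective_apply]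
  simp [f, qsum, quadFormPlus, quadFormMinus, Fin.sum_univ_two]
  linear_combination CharTwo.two_eq_zero (R := F) *
    (p.1 (.inr 0) * p.2 (.inr 0) + b * (p.1 (.inr 1) * p.2 (.inr 1)) + a * (p.1 (.inr 0) * p.2 (.inr 1))
      + a * (p.1 (.inr 1) * p.2 (.inr 0)) + a * (p.2 (.inr 0) * p.2 (.inr 1)))

section Tori

variable [Fintype F]

theorem elt_plus {d : ℕ} (hd : 0 < d) : Elt (quadFormPlus d F) (Fintype.card F ^ d - 1) := by
  classical
  obtain ⟨L, _, _, _, hLd, hL⟩ := SpSpec.exists_ext (F := F) d hd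
  obtain ⟨η, hη⟩ := IsCyclic.exists_ofOrder_eq_natCard (α := Lˣ)
  let ρ : Lˣ →* Module.End F (L × Module.Dual F L) :=
    { toFun := fun u => prHom (LinearMap.mulLeft F (u : L),
        (LinearMap.mulLeft F ((u⁻¹ : Lˣ) : L)).dualMap)
      map_one' := by
        refine LinearMap.ext fun p => Prod.ext (one_mul _) (LinearMap.ext fun z => ?_)
        simp [prHom_apply]
      map_mul' := fun u v => by
        refine LinearMap.ext fun p => Prod.ext ?_ (LinearMap.ext fun z => ?_)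
        · simp [prHom_apply]
        · simp [prHom_apply, mul_comm, mul_left_comm, mul_assoc] }
  have hρ : Function.Injective ρ := fun u v h => Units.ext (by
    simpa [ρ, prHom_apply] using congrArg Prod.fst (LinearMap.congr_fun h (1, 0)))
  refine Elt.map (P := fun p : L × Module.Dual F L => p.2 p.1) ?_
    ⟨ρ η, fun p => ?_, by rw [orderOf_injective ρ hρ, hη, Nat.card_units, Nat.card_eq_fintype_card, hL]⟩
  · haveI : Module.Finite F L := Module.Finite.of_finite
    let β : Module.Basis (Fin d) F L := Module.finBasisOfFinrankEq F L hLd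
    refine ⟨(β.equivFun.prodCongr (β.constr F).symm).trans
      (LinearEquiv.sumArrowLequivProdArrow (Fin d) (Fin d) F F).symm, fun p => ?_⟩
    show _ = p.2 p.1
    conv_rhs => rw [← β.sum_repr p.1, map_sum]
    simp [quadFormPlus, LinearEquiv.sumArrowLequivProdArrow, Equiv.sumArrowEquivProdArrow,
      Module.Basis.constr_symm_apply]
  · simp [ρ, prHom_apply]

theorem elt_minus {d : ℕ} (hd : 2 ≤ d) (a b : F)
    (han : ∀ x y : F, x ^ 2 + a * x * y + b * y ^ 2 = 0 → x = 0 ∧ y = 0) :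
    Elt (quadFormMinus (d - 1) F a b) (Fintype.card F ^ d + 1) := by
  classical
  obtain ⟨K, _, _, _, σ, c, e, hcK, hσ, -, hQ⟩ := MaxSub.MinusModel.exists_model hd a b han
  obtain ⟨η₀, hη₀⟩ := IsCyclic.exists_ofOrder_eq_natCard (α := Kˣ)
  obtain ⟨η, hη⟩ := SpSpec.exists_orderOf_of_dvd (y := η₀) (D := Fintype.card F ^ d + 1) (by
    rw [hη₀, Nat.card_units, Nat.card_eq_fintype_card, hcK]
    refine ⟨Fintype.card F ^ d - 1, ?_⟩
    rw [← Nat.sq_sub_sq, one_pow, ← pow_mul, mul_comm])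
  have hN : (η : K) * σ (η : K) = 1 := by
    rw [hσ, ← pow_succ', ← Units.val_pow_eq_pow_val, ← hη, pow_orderOf_eq_one, Units.val_one]
  let ρ : Kˣ →* Module.End F K :=
    { toFun := fun u => LinearMap.mulLeft F (u : K)
      map_one' := LinearMap.ext fun z => one_mul z
      map_mul' := fun u v => LinearMap.ext fun z => mul_assoc _ _ z }
  have hρ : Function.Injective ρ := fun u v h => Units.ext (by
    simpa [ρ] using LinearMap.congr_fun h 1)
  refine Elt.map (P := fun z : K => Algebra.trace F K (c * (z * σ z))) ⟨e.symm, fun z => ?_⟩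
    ⟨ρ η, fun z => ?_, by rw [orderOf_injective ρ hρ, hη]⟩
  · rw [hQ, LinearEquiv.apply_symm_apply]
  · show Algebra.trace F K (c * ((η : K) * z * σ ((η : K) * z))) = _
    rw [map_mul σ]
    refine congrArg (Algebra.trace F K) ?_
    linear_combination (c * (z * σ z)) * hN

theorem elt_minus_zero (a b : F)
    (han : ∀ z₁ z₂ : F, z₁ ^ 2 + a * z₁ * z₂ + b * z₂ ^ 2 = 0 → z₁ = 0 ∧ z₂ = 0) :
    Elt (quadFormMinus 0 F a b) (Fintype.card F + 1) := by
  classical
  obtain ⟨e⟩ := Classical.nonempty_orthMinusTwo rfl a b han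
  let x := e.symm (DihedralGroup.r 1)
  have hx : orderOf x = Fintype.card F + 1 := by
    rw [MulEquiv.orderOf_eq, DihedralGroup.orderOf_r_one]
  let ρ : Cfsg.isometryGroup F (quadFormMinus 0 F a b) →*
      Module.End F ((Fin 0 ⊕ Fin 0) ⊕ Fin 2 → F) :=
    (MonoidHomClass.toMonoidHom (Matrix.toLinAlgEquiv' (R := F) (n := (Fin 0 ⊕ Fin 0) ⊕ Fin 2))).comp
      ((Units.coeHom _).comp (Subgroup.subtype _))
  have hρ : Function.Injective ρ := fun u v h =>
    Subtype.ext (Units.ext ((Matrix.toLinAlgEquiv' (R := F)).injective h))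
  exact ⟨ρ x, fun v => x.2 v v, by rw [orderOf_injective ρ hρ, hx]⟩

end Tori

variable [CharP F 2]

theorem invol_plus : ∃ s, Pres (quadFormPlus 1 F) s ∧ s ^ 2 = 1 ∧
    Module.finrank F (LinearMap.range (s - 1)) = 1 ∧
    ∃ w, quadFormPlus 1 F (w + s w) ≠ 0 := by
  let s : Module.End F (Fin 1 ⊕ Fin 1 → F) := LinearMap.funLeft F F Sum.swap
  refine ⟨s, fun v => by simp [s, quadFormPlus, mul_comm],
    LinearMap.ext fun v => funext fun i => by cases i <;> rfl, ?_,
    Sum.elim (fun _ => 1) (fun _ => 0), by simp [s, quadFormPlus]⟩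
  have : LinearMap.range (s - 1) = Submodule.span F {fun _ => (1 : F)} := by
    apply le_antisymm
    · rintro _ ⟨v, rfl⟩
      refine Submodule.mem_span_singleton.2 ⟨v (.inl 0) + v (.inr 0), ?_⟩
      funext i
      rcases i with i | i <;>
        simp [s, Subsingleton.elim i 0, CharTwo.sub_eq_add, add_comm]
    · rw [Submodule.span_le, Set.singleton_subset_iff]
      refine ⟨Sum.elim (fun _ => 1) (fun _ => 0), funext fun i => ?_⟩
      rcases i with i | i <;> simp [s, CharTwo.sub_eq_add]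
  rw [this, finrank_span_singleton]
  intro h
  exact one_ne_zero (congrFun h (.inl 0))

theorem invol_minus {a : F} (ha : a ≠ 0) (b : F) :
    ∃ s, Pres (quadFormMinus 0 F a b) s ∧ s ^ 2 = 1 ∧ s ≠ 1 ∧
    ∃ w, quadFormMinus 0 F a b (w + s w) ≠ 0 := by
  let s : Module.End F ((Fin 0 ⊕ Fin 0) ⊕ Fin 2 → F) :=
    { toFun := fun v => Sum.elim (fun i => i.elim Fin.elim0 Fin.elim0)
        ![v (.inr 0) + a * v (.inr 1), v (.inr 1)]
      map_add' := fun v w => by
        funext i; rcases i with (i | i) | i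
        · exact i.elim0
        · exact i.elim0
        · fin_cases i <;> simp <;> ring
      map_smul' := fun c v => by
        funext i; rcases i with (i | i) | i
        · exact i.elim0
        · exact i.elim0
        · fin_cases i <;> simp <;> ring }
  refine ⟨s, fun v => ?_, LinearMap.ext fun v => funext fun i => ?_, fun h => ?_,
    Sum.elim (fun _ => 0) ![0, 1], ?_⟩
  · simp [s, quadFormMinus]
    linear_combination CharTwo.two_eq_zero (R := F) *
      (a * v (.inr 0) * v (.inr 1) + a ^ 2 * v (.inr 1) ^ 2)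
  · rcases i with (i | i) | i
    · exact i.elim0
    · exact i.elim0
    · fin_cases i <;> simp [s, sq, add_assoc, CharTwo.add_self_eq_zero]
  · have := congrFun (LinearMap.congr_fun h (Sum.elim (fun _ => 0) ![0, 1])) (.inr 0)
    simp [s] at this
    exact ha this
  · simp [s, quadFormMinus, CharTwo.add_self_eq_zero, ha]

/-- An element of order four with nontrivial norm. -/
def Four {V : Type*} [AddCommGroup V] [Module F V] (Q : V → F) : Prop :=
  ∃ a, Pres Q a ∧ a ^ 4 = 1 ∧ ∃ v, (∑ i ∈ range 4, a ^ i) v ≠ 0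

theorem Four.map {V W : Type*} [AddCommGroup V] [Module F V] [AddCommGroup W] [Module F W]
    {P : V → F} {Q : W → F} : Eqv P Q → Four P → Four Q := by
  rintro ⟨e, h⟩ ⟨g, hg, h4, v, hv⟩
  refine ⟨_, hg.conj e h, by rw [← map_pow, h4, map_one], e v, fun h0 => hv (e.injective ?_)⟩
  simp only [← map_pow, ← map_sum] at h0
  change e ((∑ i ∈ range 4, g ^ i) (e.symm (e v))) = 0 at h0
  rwa [e.symm_apply_apply, ← map_zero e] at h0

theorem Four.elt {V : Type*} [AddCommGroup V] [Module F V] {Q : V → F} : Four Q → Elt Q 4 := by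
  rintro ⟨a, ha, h4, v, hv⟩
  refine ⟨a, ha, orderOf_eq_prime_pow (p := 2) (n := 1) ?_ h4⟩
  intro h2
  rw [pow_one] at h2
  apply hv
  rw [show range 4 = range (2 + 2) from rfl, sum_range_add]
  simp only [pow_add, h2, one_mul, LinearMap.add_apply]
  exact add_self_zero (F := F) _

theorem four_double {W : Type*} [AddCommGroup W] [Module F W] (Q : QuadraticForm F W)
    {s : Module.End F W} (hs : Pres Q s) (hs2 : s ^ 2 = 1) {w : W} (hw : Q (w + s w) ≠ 0) :
    Four (qsum (hyp F) Q) := by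
  refine ⟨_, dbl_pres (w := w) hs, dbl_pow_two_mul even_two hs2, ((0, 1), 0), ?_⟩
  rw [dbl_sum_four hs2]
  intro h
  apply hw
  rw [Geometry.quad_add, hs w, CharTwo.add_self_eq_zero, zero_add]
  exact congrArg (fun p : (F × F) × W => p.1.1) h

theorem elt_eight {W : Type*} [AddCommGroup W] [Module F W] (Q : QuadraticForm F W)
    (h : Four (⇑Q)) : Elt (qsum (hyp F) Q) 8 := by
  obtain ⟨a, ha, h4, v, hv⟩ := h
  refine ⟨_, dbl_pres (w := v) ha, orderOf_eq_prime_pow (p := 2) (n := 2) (dbl_pow_ne hv) ?_⟩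
  exact dbl_pow_two_mul (by decide) h4

theorem four_plus : Four (quadFormPlus 2 F) := by
  obtain ⟨s, hs, hs2, -, w, hw⟩ := invol_plus (F := F)
  rw [Geometry.quadFormPlus_eq] at hs hw
  refine Four.map ?_ (four_double _ hs hs2 hw)
  rw [← Geometry.quadFormPlus_eq]
  exact (eqv_hyp.sum (Eqv.refl _)).trans (eqv_plus_plus 1 1)

theorem four_minus {a : F} (ha : a ≠ 0) (b : F) : Four (quadFormMinus 1 F a b) := by
  obtain ⟨s, hs, hs2, -, w, hw⟩ := invol_minus ha b
  rw [Geometry.quadFormMinus_eq] at hs hw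
  refine Four.map ?_ (four_double _ hs hs2 hw)
  rw [← Geometry.quadFormMinus_eq]
  exact (eqv_hyp.sum (Eqv.refl _)).trans (eqv_plus_minus 1 0 a b)

theorem eight_plus : Elt (quadFormPlus 3 F) 8 := by
  have h := four_plus (F := F)
  rw [Geometry.quadFormPlus_eq] at h
  refine Elt.map ?_ (elt_eight _ h)
  rw [← Geometry.quadFormPlus_eq]
  exact (eqv_hyp.sum (Eqv.refl _)).trans (eqv_plus_plus 1 2)

theorem eight_minus {a : F} (ha : a ≠ 0) (b : F) : Elt (quadFormMinus 2 F a b) 8 := by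
  have h := four_minus ha b
  rw [Geometry.quadFormMinus_eq] at h
  refine Elt.map ?_ (elt_eight _ h)
  rw [← Geometry.quadFormMinus_eq]
  exact (eqv_hyp.sum (Eqv.refl _)).trans (eqv_plus_minus 1 1 a b)

theorem two_plus : Elt (quadFormPlus 1 F) 2 := by
  obtain ⟨s, hs, hs2, h1, -⟩ := invol_plus (F := F)
  refine ⟨s, hs, orderOf_eq_prime hs2 fun h => ?_⟩
  rw [h, sub_self, LinearMap.range_zero, finrank_bot] at h1
  exact zero_ne_one h1

theorem two_minus {a : F} (ha : a ≠ 0) (b : F) : Elt (quadFormMinus 0 F a b) 2 := by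
  obtain ⟨s, hs, hs2, h1, -⟩ := invol_minus ha b
  exact ⟨s, hs, orderOf_eq_prime hs2 h1⟩

/-- The list of maximal numbers. -/
def maxima (q : ℕ) : List ℕ :=
  [q ^ 4 + 1, q ^ 4 - 1, (q ^ 3 - 1) * (q + 1), (q ^ 3 + 1) * (q - 1), 2 * (q ^ 3 - 1),
    2 * (q ^ 3 + 1), 2 * ((q ^ 2 + 1) * (q - 1)), 2 * ((q ^ 2 + 1) * (q + 1)), 4 * (q ^ 2 - 1),
    4 * (q ^ 2 + 1), 8 * (q - 1), 8 * (q + 1)]

theorem target_maxima {q n : ℕ} (hq : 1 ≤ q) (h : Target q n) : ∃ N ∈ maxima q, n ∣ N := by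
  rcases target_cases hq h with (h | h | h | h) | (h | h | h | h) | (h | h) | h | h <;>
    exact ⟨_, by simp [maxima], h⟩

theorem coprime_of_add_two {x y A B : ℕ} (hx : Odd x) (hxA : x ∣ A) (hyB : y ∣ B) (h : A + 2 = B) :
    x.Coprime y := by
  refine Nat.coprime_of_dvd fun p hp hpx hpy => ?_
  have h2 : p ∣ 2 := (Nat.dvd_add_right (hpx.trans hxA)).1 (by rw [h]; exact hpy.trans hyB)
  obtain rfl := (Nat.prime_dvd_prime_iff_eq hp Nat.prime_two).1 h2
  exact Nat.not_even_iff_odd.2 hx (even_iff_two_dvd.2 hpx)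

theorem arith {q : ℕ} (hq : 2 ≤ q) (he : Even q) :
    (Odd (q ^ 4 + 1) ∧ Odd (q ^ 4 - 1) ∧ Odd (q ^ 3 - 1) ∧ Odd (q ^ 3 + 1) ∧ Odd (q ^ 2 - 1) ∧
      Odd (q ^ 2 + 1) ∧ Odd (q - 1) ∧ Odd (q + 1)) ∧
    ((q ^ 2 - 1).Coprime (q ^ 2 + 1) ∧ (q ^ 3 - 1).Coprime (q + 1) ∧
      (q - 1).Coprime (q ^ 3 + 1) ∧ (q - 1).Coprime (q ^ 2 + 1) ∧ (q + 1).Coprime (q ^ 2 + 1)) := by
  have hp : ∀ j, j ≠ 0 → Odd (q ^ j + 1) ∧ Odd (q ^ j - 1) := fun j hj =>
    ⟨(he.pow_of_ne_zero hj).add_one,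
      Nat.Even.sub_odd (Nat.one_le_pow _ _ (by omega)) (he.pow_of_ne_zero hj) odd_one⟩
  have o1 : Odd (q + 1) ∧ Odd (q - 1) := by simpa using hp 1 one_ne_zero
  obtain ⟨d1, d2, -, -, d5, d6, -, -⟩ := dvds (q := q) (by omega)
  have h2 : q ^ 2 - 1 + 2 = q ^ 2 + 1 := by
    have := Nat.one_le_pow 2 q (by omega); omega
  have h3 : q ^ 3 - 1 + 2 = q ^ 3 + 1 := by
    have := Nat.one_le_pow 3 q (by omega); omega
  exact ⟨⟨(hp 4 (by omega)).1, (hp 4 (by omega)).2, (hp 3 (by omega)).2, (hp 3 (by omega)).1,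
      (hp 2 (by omega)).2, (hp 2 (by omega)).1, o1.2, o1.1⟩,
    coprime_of_add_two (hp 2 (by omega)).2 dvd_rfl dvd_rfl h2,
    coprime_of_add_two (hp 3 (by omega)).2 dvd_rfl d6 h3,
    coprime_of_add_two o1.2 d5 dvd_rfl h3,
    coprime_of_add_two o1.2 d1 dvd_rfl h2,
    coprime_of_add_two o1.1 d2 dvd_rfl h2⟩

theorem realised [Fintype F] (a b : F)
    (han : ∀ z₁ z₂ : F, z₁ ^ 2 + a * z₁ * z₂ + b * z₂ ^ 2 = 0 → z₁ = 0 ∧ z₂ = 0) :
    ∀ N ∈ maxima (Fintype.card F),
      Elt (quadFormMinus 3 F a b) N ∧ Spec (quadFormMinus 3 F a b) N := by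
  have ha := anisotropic_ne_zero han
  have hev : Even (Fintype.card F) := by
    obtain ⟨n, hp, h⟩ := FiniteField.card F 2
    rw [h]
    exact even_two.pow_of_ne_zero n.pos.ne'
  obtain ⟨⟨o4, o4', o3', o3, o2', o2, o1', o1⟩, c2, c31, c13, c12, c12'⟩ :=
    arith Fintype.one_lt_card hev
  set q := Fintype.card F
  set M := fun l => quadFormMinus l F a b with hM
  set P := fun k => quadFormPlus k F with hP
  have p1 : Elt (P 1) (q - 1) := by simpa [hP, q] using elt_plus (F := F) (d := 1) one_pos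
  have p2 : Elt (P 2) (q ^ 2 - 1) := elt_plus two_pos
  have p3 : Elt (P 3) (q ^ 3 - 1) := elt_plus three_pos
  have m0 : Elt (M 0) (q + 1) := elt_minus_zero a b han
  have m1 : Elt (M 1) (q ^ 2 + 1) := elt_minus (d := 2) le_rfl a b han
  have m2 : Elt (M 2) (q ^ 3 + 1) := elt_minus (d := 3) (by omega) a b han
  have m3 : Elt (M 3) (q ^ 4 + 1) := elt_minus (d := 4) (by omega) a b han
  have e30 : Eqv (qsum (P 3) (M 0)) (M 3) := eqv_plus_minus 3 0 a b
  have e21 : Eqv (qsum (P 2) (M 1)) (M 3) := eqv_plus_minus 2 1 a b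
  have e12 : Eqv (qsum (P 1) (M 2)) (M 3) := eqv_plus_minus 1 2 a b
  have e11 : Eqv (qsum (P 1) (P 1)) (P 2) := eqv_plus_plus 1 1
  have e00 : Eqv (qsum (M 0) (M 0)) (P 2) := eqv_minus_minus ha b
  have two_co : ∀ d, Odd d → Nat.Coprime 2 d := fun d h => Nat.coprime_two_left.2 h
  intro N hN
  simp only [maxima, List.mem_cons, List.not_mem_nil, or_false] at hN
  change Elt (M 3) N ∧ Spec (M 3) N
  rcases hN with rfl | rfl | rfl | rfl | rfl | rfl | rfl | rfl | rfl | rfl | rfl | rfl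
  · exact ⟨m3, Spec.of_odd o4 m3⟩
  · have h : Elt (M 3) (q ^ 4 - 1) := by
      have := (p2.prod c2 m1).map e21
      rwa [mul_comm, ← Nat.sq_sub_sq, one_pow, ← pow_mul] at this
    exact ⟨h, Spec.of_odd o4' h⟩
  · have h := (p3.prod c31 m0).map e30
    exact ⟨h, Spec.of_odd (o3'.mul o1) h⟩
  · have h := (p1.prod c13 m2).map e12
    rw [mul_comm] at h
    exact ⟨h, Spec.of_odd (o3.mul o1') h⟩
  · refine ⟨?_, (Spec.of_fix o3' p3).map e30⟩
    have h := (p3.prod (two_co _ o3').symm (two_minus ha b)).map e30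
    rwa [mul_comm] at h
  · refine ⟨(two_plus.prod (two_co _ o3) m2).map e12, ?_⟩
    exact (Spec.of_fix o3 m2).map ((Eqv.comm _ _).trans e12)
  · have hc : ((q - 1) * 2).Coprime (q ^ 2 + 1) := Nat.Coprime.mul_left c12 (two_co _ o2)
    refine ⟨?_, ?_⟩
    · have h := (((p1.prod (two_co _ o1').symm two_plus).map e11).prod hc m1).map e21
      rwa [show (q - 1) * 2 * (q ^ 2 + 1) = 2 * ((q ^ 2 + 1) * (q - 1)) by ring] at h
    · have h := (Spec.of_fix (o1'.mul o2) ((p1.prod c12 m1).map (eqv_plus_minus 1 1 a b))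
        (Q := P 1)).map ((Eqv.comm _ _).trans e12)
      rwa [mul_comm (q - 1)] at h
  · have hev2 : Even (Module.finrank F ((Fin 0 ⊕ Fin 0) ⊕ Fin 2 → F)) := by simp
    obtain ⟨he, hs⟩ := Spec.of_swap hev2 o1 o2 c12' m0 m1
    rw [mul_comm (q + 1)] at he hs
    exact ⟨he.map ((e00.sum (Eqv.refl _)).trans e21), hs.map ((e00.sum (Eqv.refl _)).trans e21)⟩
  · refine ⟨?_, ?_⟩
    · have h := (p2.prod ((two_co _ o2').pow_left 2).symm (four_minus ha b).elt).map e21
      rwa [mul_comm] at h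
    · exact (Spec.of_four o2' (four_minus ha b).elt p2).map ((Eqv.comm _ _).trans e21)
  · refine ⟨((four_plus).elt.prod ((two_co _ o2).pow_left 2) m1).map e21, ?_⟩
    exact (Spec.of_four o2 four_plus.elt m1).map e21
  · refine ⟨?_, ?_⟩
    · have h := (p1.prod ((two_co _ o1').pow_left 3).symm (eight_minus ha b)).map e12
      rwa [mul_comm] at h
    · refine (Spec.of_eight o1' (four_minus ha b) ?_ p1).map
        (((Eqv.refl _).sum e11).trans ((Eqv.comm _ _).trans e21))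
      obtain ⟨s, h1, h2, h3, -⟩ := invol_plus (F := F)
      exact ⟨s, h1, h2, h3⟩
  · refine ⟨(eight_plus.prod ((two_co _ o1).pow_left 3) m0).map e30, ?_⟩
    refine (Spec.of_eight o1 (four_plus (F := F) : ∃ g, Pres (quadFormPlus 2 F) g ∧ _) ?_ m0).map
      (((Eqv.refl _).sum (eqv_plus_minus 1 0 a b)).trans e21)
    obtain ⟨s, h1, h2, h3, -⟩ := invol_plus (F := F)
    exact ⟨s, h1, h2, h3⟩

end Cfsg.Agent.Lib.SpEight
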