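import Cfsg.Agent.Lib.SpEight.Bound
import Cfsg.Agent.Lib.SpEight.Models
import Mathlib.GroupTheory.SemidirectProduct

/-!
The spectrum of `PSp₈(q)`, `q` even.
-/

set_option autoImplicit false
set_option linter.unusedSectionVars false
set_option linter.style.haveILetI false

namespace Cfsg.Agent.Lib.SpEight

open Finset
open Cfsg.Agent.Lib.Geometry
open QuadraticMap (polarBilin)

attribute [-simp] QuadraticMap.polarBilin_apply_apply

variable {F : Type*} [Field F] [Fintype F] [CharP F 2]

/-- The common spectrum. -/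
def spec (q : ℕ) : Set ℕ := {n | ∃ N ∈ maxima q, n ∣ N}

theorem two_zero : (2 : F) = 0 := CharTwo.two_eq_zero

theorem isAlt_polar {V : Type*} [AddCommGroup V] [Module F V] (Q : QuadraticForm F V) :
    (polarBilin Q).IsAlt := fun x => by
  rw [quad_polar_self, two_zero, zero_mul]

theorem finite_isometries {V : Type*} [AddCommGroup V] [Module F V] [Module.Finite F V]
    (Q : QuadraticForm F V) : Finite (quadIsometries Q) := by
  haveI : Finite V := Module.finite_of_finite F
  exact Finite.of_injective (fun g : quadIsometries Q => ⇑(g : V ≃ₗ[F] V))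
    fun g h e => Subtype.ext (DFunLike.coe_injective e)

/-- An isometry as an endomorphism. -/
def toEnd {V : Type*} [AddCommGroup V] [Module F V] (Q : QuadraticForm F V) :
    quadIsometries Q →* Module.End F V :=
  LinearEquiv.automorphismGroup.toLinearMapMonoidHom.comp (Subgroup.subtype _)

theorem toEnd_injective {V : Type*} [AddCommGroup V] [Module F V] (Q : QuadraticForm F V) :
    Function.Injective (toEnd Q) := fun _ _ h =>
  Subtype.ext (LinearEquiv.toLinearMap_injective h)

theorem exists_isometry {V : Type*} [AddCommGroup V] [Module F V] {Q : QuadraticForm F V}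
    {g : Module.End F V} (hg : Pres Q g) (hpos : 0 < orderOf g) :
    ∃ x : quadIsometries Q, toEnd Q x = g := by
  have hb := (Module.End.isUnit_iff g).1 (orderOf_pos_iff.1 hpos).isUnit
  exact ⟨⟨LinearEquiv.ofBijective g hb, hg⟩, rfl⟩

theorem orderOf_psp (x : Matrix.symplecticGroup (Fin 4) F) :
    orderOf (QuotientGroup.mk x : Cfsg.PSp 4 F) = orderOf x := by
  refine orderOf_eq_orderOf_iff.2 fun k => ?_
  rw [SpSpec.mk_pow_eq_one (by norm_num)]
  refine or_iff_left_of_imp fun h => Subtype.ext (h.trans ?_)
  ext i j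
  simp [CharTwo.neg_eq]

theorem symp_mem_spec {V : Type*} [AddCommGroup V] [Module F V] [Module.Finite F V]
    {B : LinearMap.BilinForm F V} (hB : B.Nondegenerate) (hd : Module.finrank F V = 8)
    {g : Module.End F V} (hg : SpSpec.Isom B g) (hfin : 0 < orderOf g) :
    orderOf g ∈ spec (Fintype.card F) :=
  target_maxima Fintype.card_pos (target_orderOf hB hd hg hfin).1

theorem psp_subset : Set.range (orderOf : Cfsg.PSp 4 F → ℕ) ⊆ spec (Fintype.card F) := by
  classical
  rintro _ ⟨y, rfl⟩
  obtain ⟨x, rfl⟩ := QuotientGroup.mk_surjective y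
  haveI : Finite (Matrix.symplecticGroup (Fin 4) F) := inferInstance
  let ρ : Matrix.symplecticGroup (Fin 4) F →* Module.End F (Fin 4 ⊕ Fin 4 → F) :=
    (MonoidHomClass.toMonoidHom (Matrix.toLinAlgEquiv' (R := F) (n := Fin 4 ⊕ Fin 4))).comp
      (Submonoid.subtype _)
  have hρ : Function.Injective ρ := fun u v h =>
    Subtype.ext ((Matrix.toLinAlgEquiv' (R := F)).injective h)
  rw [orderOf_psp, ← orderOf_injective ρ hρ]
  refine symp_mem_spec (sympBilin_nondegenerate F 4) (by simp) (fun u v => ?_)
    (by rw [orderOf_injective ρ hρ]; exact orderOf_pos x)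
  rw [sympBilin_apply, sympBilin_apply]
  exact mem_symplecticGroup_iff_form.1 x.2 u v

variable (a b : F) (han : ∀ z₁ z₂ : F, z₁ ^ 2 + a * z₁ * z₂ + b * z₂ ^ 2 = 0 → z₁ = 0 ∧ z₂ = 0)

local notation "Q₃" => matQuad (minusMatrix 3 a b)

include han in
theorem nondegenerate : (polarBilin Q₃).Nondegenerate := by
  refine polarBilin_matQuad_nondegenerate ?_
  rw [det_minusGram]
  refine mul_ne_zero (pow_ne_zero _ (neg_ne_zero.2 one_ne_zero)) ?_
  rw [show (4 : F) * b - a ^ 2 = -a ^ 2 by linear_combination (2 * b) * two_zero (F := F)]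
  exact neg_ne_zero.2 (pow_ne_zero _ (anisotropic_ne_zero han))

include han in
theorem spec_subset_iso : spec (Fintype.card F) ⊆ Set.range (orderOf : quadIsometries Q₃ → ℕ) := by
  haveI := finite_isometries Q₃
  rintro n ⟨N, hN, hn⟩
  obtain ⟨g, hg, ho⟩ := (realised a b han N hN).1
  rw [quadFormMinus_eq] at hg
  have hpos : 0 < orderOf g := by
    obtain ⟨⟨o4, o4', o3', o3, o2', o2, o1', o1⟩, -⟩ := arith (q := Fintype.card F)
      Fintype.one_lt_card (by
        obtain ⟨k, hp, h⟩ := FiniteField.card F 2
        rw [h]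
        exact even_two.pow_of_ne_zero k.pos.ne')
    have := o4.pos; have := o4'.pos; have := o3'.pos; have := o3.pos
    have := o2'.pos; have := o2.pos; have := o1'.pos; have := o1.pos
    rw [ho]
    simp only [maxima, List.mem_cons, List.not_mem_nil, or_false] at hN
    rcases hN with rfl | rfl | rfl | rfl | rfl | rfl | rfl | rfl | rfl | rfl | rfl | rfl <;> positivity
  obtain ⟨x, rfl⟩ := exists_isometry hg hpos
  rw [orderOf_injective _ (toEnd_injective _)] at ho
  exact SpSpec.exists_orderOf_of_dvd (y := x) (ho ▸ hn)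

include han in
theorem iso_subset_psp : Set.range (orderOf : quadIsometries Q₃ → ℕ) ⊆
    Set.range (orderOf : Cfsg.PSp 4 F → ℕ) := by
  rintro _ ⟨x, rfl⟩
  obtain ⟨y, hy⟩ := SpSpec.realize (polarBilin Q₃) (isAlt_polar _) (nondegenerate a b han) (n := 4)
    (by simp) (g := toEnd _ x) (fun u v => iso_polar Q₃ x u v)
  refine ⟨QuotientGroup.mk y, ?_⟩
  rw [orderOf_psp, ← orderOf_injective (toEnd Q₃) (toEnd_injective _) x]
  exact orderOf_eq_orderOf_iff.2 fun k => (hy k).1

include han in
theorem psp_eq_spec : Set.range (orderOf : Cfsg.PSp 4 F → ℕ) = spec (Fintype.card F) :=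
  psp_subset.antisymm ((spec_subset_iso a b han).trans (iso_subset_psp a b han))

include han in
theorem psp_eq_iso : Set.range (orderOf : Cfsg.PSp 4 F → ℕ) =
    Set.range (orderOf : Cfsg.isometryGroup F (Cfsg.quadFormMinus 3 F a b) → ℕ) := by
  rw [quadFormMinus_eq]
  have h : Set.range (orderOf : Cfsg.isometryGroup F (⇑Q₃) → ℕ) =
      Set.range (orderOf : quadIsometries Q₃ → ℕ) := by
    rw [← (isometryEquiv Q₃).surjective.range_comp]
    exact congrArg _ (funext fun g => ((isometryEquiv Q₃).orderOf_eq g).symm)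
  rw [h]
  exact ((iso_subset_psp a b han)).antisymm' (psp_subset.trans (spec_subset_iso a b han))

theorem exists_anisotropic : ∃ b : F,
    ∀ z₁ z₂ : F, z₁ ^ 2 + 1 * z₁ * z₂ + b * z₂ ^ 2 = 0 → z₁ = 0 ∧ z₂ = 0 := by
  have hns : ¬ Function.Surjective (fun t : F => t ^ 2 + t) := by
    intro hs
    refine zero_ne_one ((Finite.injective_iff_surjective.2 hs) (a₁ := (0 : F)) (a₂ := 1) ?_)
    simp [CharTwo.add_self_eq_zero]
  obtain ⟨b, hb⟩ := not_forall.1 hns
  refine ⟨b, fun x y h => ?_⟩
  rcases eq_or_ne y 0 with rfl | hy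
  · simp at h; exact ⟨h, rfl⟩
  · exfalso
    refine hb ⟨x / y, ?_⟩
    show (x / y) ^ 2 + x / y = b
    field_simp
    linear_combination h - (b * y ^ 2) * two_zero (F := F)

/-- The split extension of the kernel of the Dickson invariant by copies of the natural module. -/
theorem exists_extension (M : ℕ) : ∃ (H : Type) (_ : Group H) (_ : Fintype H),
    M < Fintype.card H ∧ Set.range (orderOf : H → ℕ) = Set.range (orderOf : Cfsg.PSp 4 F → ℕ) := by
  classical
  obtain ⟨b, han⟩ := exists_anisotropic (F := F)
  have hnd := nondegenerate 1 b han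
  let V := ((Fin 3 ⊕ Fin 3) ⊕ Fin 2 → F)
  let Q : QuadraticForm F V := matQuad (minusMatrix 3 1 b)
  have hV : Module.finrank F V = 8 := by simp [V]
  let D := dicksonHom Q hnd (closure_refl_eq_top Q hnd (Or.inr (by omega)))
  let G : Subgroup (quadIsometries Q) := D.ker
  haveI := finite_isometries Q
  let φ : G →* MulAut (Multiplicative (Fin (M + 1) → V)) :=
    { toFun := fun g => AddEquiv.toMultiplicative
        (LinearEquiv.piCongrRight fun _ => ((g : quadIsometries Q) : V ≃ₗ[F] V)).toAddEquiv
      map_one' := by ext; rfl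
      map_mul' := fun g h => by ext; rfl }
  let H₀ := Multiplicative (Fin (M + 1) → V) ⋊[φ] G
  haveI : Finite H₀ := Finite.of_equiv _ SemidirectProduct.equivProd.symm
  have hφ : ∀ (g : G) (u : Fin (M + 1) → V) i,
      (φ g (Multiplicative.ofAdd u)).toAdd i = toEnd Q g (u i) := fun g u i => rfl
  have hpowL : ∀ (x : H₀) (k : ℕ) i, (x ^ k).left.toAdd i =
      (∑ j ∈ range k, toEnd Q (x.right : quadIsometries Q) ^ j) (x.left.toAdd i) := by
    intro x k
    induction k with
    | zero => intro i; rfl
    | succ k ih =>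
      intro i
      rw [pow_succ, SemidirectProduct.mul_left, toAdd_mul, Pi.add_apply, ih, sum_range_succ,
        LinearMap.add_apply, ← map_pow, ← SubgroupClass.coe_pow]
      congr 1
      show toEnd Q ((x ^ k).right : quadIsometries Q) (x.left.toAdd i) = _
      rw [show (x ^ k).right = x.right ^ k from map_pow SemidirectProduct.rightHom x k]
  have hordR : ∀ x : H₀, orderOf (toEnd Q (x.right : quadIsometries Q)) = orderOf x.right := fun x =>
    (orderOf_injective _ (toEnd_injective Q) _).trans (Subgroup.orderOf_coe _)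
  have hzero : ∀ (y : H₀), y.right = 1 → y ^ 2 = 1 := by
    intro y hy
    refine SemidirectProduct.ext (Multiplicative.toAdd.injective (funext fun i => ?_)) ?_
    · rw [hpowL, hy, OneMemClass.coe_one, map_one, sum_range_succ, sum_range_one, pow_zero,
        pow_one, LinearMap.add_apply]
      exact add_self_zero (F := F) _
    · exact (map_pow SemidirectProduct.rightHom y 2).trans (by rw [SemidirectProduct.rightHom_eq_right, hy, one_pow]; rfl)
  have hdiv : ∀ x : H₀, orderOf x.right ∣ orderOf x ∧ orderOf x ∣ 2 * orderOf x.right := by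
    intro x
    refine ⟨orderOf_map_dvd SemidirectProduct.rightHom x, orderOf_dvd_of_pow_eq_one ?_⟩
    rw [mul_comm, pow_mul]
    refine hzero _ ((map_pow SemidirectProduct.rightHom x _).trans ?_)
    rw [SemidirectProduct.rightHom_eq_right, pow_orderOf_eq_one]
  have hdick : ∀ g : G, Even (Module.finrank F (LinearMap.range (toEnd Q g - 1))) := by
    intro g
    have h1 : dickson Q (g : quadIsometries Q) = 1 := g.2
    have e : toEnd Q g - 1 = oneSub Q (g : quadIsometries Q) := by
      refine LinearMap.ext fun v => ?_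
      rw [LinearMap.sub_apply, oneSub_apply, sub_eq_sub_iff_add_eq_add, Module.End.one_apply]
      exact (add_self_zero (F := F) _).trans (add_self_zero (F := F) _).symm
    rw [e]
    exact (neg_one_pow_eq_one_iff_even (R := ℤˣ) (by decide)).1 h1
  have hsub : ∀ x : H₀, ∃ N ∈ maxima (Fintype.card F), orderOf x ∣ N := by
    intro x
    obtain ⟨h1, h2⟩ := target_orderOf hnd hV (g := toEnd Q (x.right : quadIsometries Q))
      (fun u v => iso_polar Q _ u v) (by rw [hordR]; exact orderOf_pos _)
    rw [hordR] at h1 h2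
    obtain ⟨hl, hr⟩ := hdiv x
    by_cases hs : x ^ orderOf x.right = 1
    · exact target_maxima Fintype.card_pos (target_of_dvd h1 (orderOf_dvd_of_pow_eq_one hs))
    · refine target_maxima Fintype.card_pos (target_of_dvd (h2 ?_ ?_) hr)
      · intro h0
        apply hs
        refine SemidirectProduct.ext (Multiplicative.toAdd.injective (funext fun i => ?_)) ?_
        · rw [hpowL, h0]; rfl
        · exact (map_pow SemidirectProduct.rightHom x _).trans (pow_orderOf_eq_one x.right)
      · intro hk
        have := LinearMap.finrank_range_add_finrank_ker (toEnd Q (x.right : quadIsometries Q) - 1)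
        obtain ⟨j, hj⟩ := hdick x.right
        rw [hV, hk] at this
        omega
  have hreal : ∀ N ∈ maxima (Fintype.card F), ∃ x : H₀, N ∣ orderOf x := by
    intro N hN
    obtain ⟨g, hg, hpos, hpar, hn⟩ := (realised 1 b han N hN).2
    rw [quadFormMinus_eq] at hg
    obtain ⟨y, rfl⟩ := exists_isometry (Q := Q) hg hpos
    have hyG : y ∈ G := by
      show dickson Q y = 1
      rcases hpar with ⟨k, hk, hev⟩ | ⟨h, hh, he⟩
      · have hD : D (y ^ k) = 1 := by
          show dickson Q (y ^ k) = 1
          have e : oneSub Q (y ^ k) = toEnd Q y ^ k - 1 := by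
            rw [← map_pow]
            refine LinearMap.ext fun v => ?_
            rw [LinearMap.sub_apply, oneSub_apply, sub_eq_sub_iff_add_eq_add, Module.End.one_apply]
            exact (add_self_zero (F := F) _).trans (add_self_zero (F := F) _).symm
          rw [dickson, movedSpace, e]
          exact hev.neg_one_pow
        rw [map_pow, Int.units_pow_eq_pow_mod_two, Nat.odd_iff.1 hk, pow_one] at hD
        exact hD
      · rw [quadFormMinus_eq] at hh
        have hh0 : 0 < orderOf h := by
          refine orderOf_pos_iff.2 (isOfFinOrder_iff_pow_eq_one.2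
            ⟨2 * orderOf (toEnd Q y), by omega, ?_⟩)
          rw [pow_mul, sq, ← he, pow_orderOf_eq_one]
        obtain ⟨z, rfl⟩ := exists_isometry (Q := Q) hh hh0
        rw [← map_mul] at he
        rw [toEnd_injective Q he]
        exact (map_mul D z z).trans (Int.units_mul_self _)
    have hoy : orderOf (⟨y, hyG⟩ : G) = orderOf (toEnd Q y) :=
      (Subgroup.orderOf_coe _).symm.trans (orderOf_injective _ (toEnd_injective Q) y).symm
    rcases hn with hn | ⟨v, hv, hn⟩
    · refine ⟨SemidirectProduct.inr ⟨y, hyG⟩, ?_⟩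
      rw [orderOf_injective _ SemidirectProduct.inr_injective, hoy]
      exact hn
    · let x : H₀ := ⟨Multiplicative.ofAdd fun _ => v, ⟨y, hyG⟩⟩
      refine ⟨x, hn.trans ?_⟩
      obtain ⟨hl, hr⟩ := hdiv x
      rw [show orderOf (toEnd Q y) = orderOf x.right from hoy.symm] at hv ⊢
      obtain ⟨c, hc⟩ := hl
      have hc2 : c ∣ 2 := by
        rw [hc, mul_comm 2] at hr
        exact (Nat.mul_dvd_mul_iff_left (orderOf_pos _)).1 hr
      rcases (Nat.dvd_prime Nat.prime_two).1 hc2 with rfl | rfl
      · exfalso
        apply hv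
        have h1 : x ^ orderOf x.right = 1 := by
          rw [← mul_one (orderOf x.right), ← hc, pow_orderOf_eq_one]
        have := congrArg (fun z : H₀ => z.left.toAdd 0) h1
        simp only [hpowL] at this
        exact this
      · rw [hc, mul_comm]
  have hpsp := psp_eq_spec 1 b han
  let e : H₀ ≃ {i : Fin (Nat.card H₀) // True} :=
    (Finite.equivFin H₀).trans (Equiv.subtypeUnivEquiv fun _ => trivial).symm
  letI : Group {i : Fin (Nat.card H₀) // True} := e.symm.group
  refine ⟨{i : Fin (Nat.card H₀) // True}, inferInstance, inferInstance, ?_, ?_⟩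
  · rw [← Nat.card_eq_fintype_card, ← Nat.card_congr e, SemidirectProduct.card, Nat.card_congr Multiplicative.toAdd,
      Nat.card_fun, Nat.card_eq_fintype_card (α := Fin (M + 1)), Fintype.card_fin]
    haveI : Finite V := Module.finite_of_finite F
    haveI : Nontrivial V := inferInstance
    calc M < 2 ^ (M + 1) := (Nat.lt_two_pow_self).trans_le (Nat.pow_le_pow_right two_pos (by omega))
      _ ≤ Nat.card V ^ (M + 1) := Nat.pow_le_pow_left Finite.one_lt_card _
      _ ≤ _ := Nat.le_mul_of_pos_right _ Nat.card_pos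
  · rw [hpsp]
    let ψ : {i : Fin (Nat.card H₀) // True} ≃* H₀ := e.symm.mulEquiv
    apply Set.Subset.antisymm
    · rintro _ ⟨x, rfl⟩
      rw [← ψ.orderOf_eq]
      exact hsub (ψ x)
    · rintro n ⟨N, hN, hn⟩
      obtain ⟨x, hx⟩ := hreal N hN
      obtain ⟨z, hz⟩ := SpSpec.exists_orderOf_of_dvd (y := x) (hn.trans hx)
      exact ⟨ψ.symm z, by rw [MulEquiv.orderOf_eq, hz]⟩

end Cfsg.Agent.Lib.SpEight
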